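import Cfsg.Agent.Lib.Lie.CTA.DN.Graph

/-!
A Bruhat type decomposition of the graph group: the projection to the matrices is injective.
-/

set_option autoImplicit false
set_option linter.unusedSectionVars false
set_option linter.unusedSimpArgs false
set_option linter.style.haveILetI false

namespace Cfsg.Agent.Lie.CTA

open Matrix
open Cfsg.Agent.Lie.PlusGen (pl pl_swap swap_ne)

variable {F : Type*} [Field F] [Fintype F] {G : Type*} [Group G] {l : ℕ}

/-- The height of a signed coordinate. -/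
def ht' (x : II l) : ℤ := Sum.elim (fun i => (l : ℤ) + 1 - i.val) (fun i => (i.val : ℤ) - ((l : ℤ) + 1)) x

theorem ht'_swap (x : II l) : ht' x.swap = -ht' x := by
  rcases x with i | i <;> simp [ht']

theorem ht'_place {x y : II l} (h : ht' x = ht' y ∨ ht' x = -ht' y) : pl x = pl y := by
  rcases x with i | i <;> rcases y with j | j <;> have := i.isLt <;> have := j.isLt <;>
    simp [ht'] at h <;> simp only [pl, Sum.elim_inl, Sum.elim_inr, id] <;> refine Fin.ext ?_ <;> omega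

theorem ht'_ne {x y : II l} (h : pl x ≠ pl y) : ht' x + ht' y ≠ 0 :=
  fun e => h (ht'_place (Or.inr (by omega)))

/-- The root is positive. -/
def Pos (x y : II l) : Prop := pl x ≠ pl y ∧ 0 < ht' x + ht' y

/-- The root is simple. -/
def Simple (x y : II l) : Prop := pl x ≠ pl y ∧ ht' x + ht' y = 1

/-- Two descriptions of one root. -/
def Same (p q z w : II l) : Prop := (z = p ∧ w = q) ∨ (z = q ∧ w = p)

theorem refl_pos {p q z w : II l} (hpq : Simple p q) (hzw : Pos z w) (hne : ¬ Same p q z w) :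
    Pos (Fork.refl p q z) (Fork.refl p q w) := by
  obtain ⟨h, hs⟩ := hpq
  obtain ⟨hzw, hpos⟩ := hzw
  obtain ⟨r1, r2, r3, r4, r5⟩ := Fork.refl_val h
  have cases5 : ∀ v : II l, v = p ∨ v = q.swap ∨ v = p.swap ∨ v = q ∨
      (v ≠ p ∧ v ≠ q.swap ∧ v ≠ p.swap ∧ v ≠ q) := fun v => by tauto
  have shift : ∀ v, (v = p ∨ v = q) ∧ ht' (Fork.refl p q v) = ht' v - 1 ∨ ¬(v = p ∨ v = q) ∧ ht' v ≤ ht' (Fork.refl p q v) := by
    intro v
    obtain ⟨a, b⟩ := pl_ne_iff.1 h
    rcases cases5 v with rfl | rfl | rfl | rfl | ⟨z1, z2, z3, z4⟩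
    · left; exact ⟨Or.inl rfl, by rw [r1, ht'_swap]; omega⟩
    · right
      exact ⟨fun e => e.elim b.symm (swap_ne q), by rw [r2, ht'_swap]; omega⟩
    · right
      refine ⟨fun e => e.elim (swap_ne p) fun e => b (by rw [← e, Sum.swap_swap]), by rw [r3, ht'_swap]; omega⟩
    · left; exact ⟨Or.inr rfl, by rw [r4, ht'_swap]; omega⟩
    · right; exact ⟨fun e => e.elim z1 z4, by rw [r5 v z1 z2 z3 z4]⟩
  have hpl : pl (Fork.refl p q z) ≠ pl (Fork.refl p q w) := by
    intro e
    have hsw : ∀ v, Fork.refl p q v.swap = (Fork.refl p q v).swap := fun v => by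
      rcases cases5 v with rfl | rfl | rfl | rfl | ⟨z1, z2, z3, z4⟩
      · rw [r1, r3, Sum.swap_swap]
      · rw [Sum.swap_swap, r2, r4]
      · rw [Sum.swap_swap, r3, r1]
      · rw [r2, r4, Sum.swap_swap]
      · rw [r5 v z1 z2 z3 z4, r5 v.swap (fun e => z3 (by rw [← e, Sum.swap_swap]))
          (fun e => z4 (Sum.swap_leftInverse.injective e)) (fun e => z1 (Sum.swap_leftInverse.injective e))
          (fun e => z2 (by rw [← e, Sum.swap_swap]))]
    rcases pl_eq e with e | e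
    · exact hzw (by rw [(Fork.refl p q).injective e])
    · exact hzw (by rw [(Fork.refl p q).injective (e.trans (hsw w).symm), pl_swap])
  refine ⟨hpl, ?_⟩
  have hne0 := ht'_ne hpl
  rcases shift z with ⟨az, ez⟩ | ⟨az, ez⟩ <;> rcases shift w with ⟨aw, ew⟩ | ⟨aw, ew⟩
  · exfalso
    rcases az with rfl | rfl <;> rcases aw with rfl | rfl
    · exact hzw rfl
    · exact hne (Or.inl ⟨rfl, rfl⟩)
    · exact hne (Or.inr ⟨rfl, rfl⟩)
    · exact hzw rfl
  all_goals omega

namespace Fork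

variable (K : Fork F G l)

theorem conj_gen {p q z w : II l} (hpq : pl p ≠ pl q) (hzw : pl z ≠ pl w) (t u : F) (H : Subgroup (Amb F G l))
    (hopp : ¬ Same p.swap q.swap z w) (hmem : K.e z w u ∈ H)
    (hsum : ∀ r s, pl r ≠ pl s → ((r = p ∧ (q.swap = z ∨ q.swap = w)) ∨ (r = q ∧ (p.swap = z ∨ p.swap = w))) →
      (s = z ∨ s = w) → ht' r + ht' s = ht' p + ht' q + (ht' z + ht' w) → ∀ v, K.e r s v ∈ H) :
    K.e p q t * K.e z w u * (K.e p q t)⁻¹ ∈ H := by
  have core : ∀ {p q z w : II l}, pl p ≠ pl q → pl z ≠ pl w → q.swap = z → p.swap ≠ w → ∀ t u, K.e z w u ∈ H →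
      (pl p ≠ pl w → ht' p + ht' w = ht' p + ht' q + (ht' z + ht' w) → ∀ v, K.e p w v ∈ H) →
      K.e p q t * K.e z w u * (K.e p q t)⁻¹ ∈ H := by
    intro p q z w hpq hzw hqz hpw t u hmem hsum
    subst hqz
    by_cases hw : w = p
    · subst hw
      have hw' : pl w ≠ pl q.swap := by rw [pl_swap]; exact hpq
      rw [K.e_anti hw', (K.e_comm_same hpq t (-u)).eq, mul_inv_cancel_right, ← K.e_anti hw']
      exact hmem
    have hpw' : pl p ≠ pl w := pl_ne_iff.2 ⟨Ne.symm hw, fun e => hpw (by rw [e, Sum.swap_swap])⟩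
    rw [K.e_comm3 hpq (by rwa [pl_swap] at hzw) hpw', mul_inv_cancel_right]
    exact mul_mem (hsum hpw' (by rw [ht'_swap]; ring) _) hmem
  by_cases h1 : q.swap = z
  · refine core hpq hzw h1 (fun e => hopp (Or.inr ⟨h1.symm, e.symm⟩)) t u hmem fun a b => ?_
    exact hsum p w a (Or.inl ⟨rfl, Or.inl h1⟩) (Or.inr rfl) b
  by_cases h2 : q.swap = w
  · rw [K.e_anti hzw.symm u]
    refine core hpq hzw.symm h2 (fun e => hopp (Or.inl ⟨e.symm, h2.symm⟩)) t (-u) (by rwa [← K.e_anti hzw.symm]) ?_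
    exact fun a b => hsum p z a (Or.inl ⟨rfl, Or.inr h2⟩) (Or.inl rfl) (by rw [b]; ring)
  by_cases h3 : p.swap = z
  · rw [K.e_anti hpq.symm t]
    refine core hpq.symm hzw h3 (fun e => hopp (Or.inl ⟨h3.symm, e.symm⟩)) (-t) u hmem ?_
    exact fun a b => hsum q w a (Or.inr ⟨rfl, Or.inl h3⟩) (Or.inr rfl) (by rw [b]; ring)
  by_cases h4 : p.swap = w
  · rw [K.e_anti hpq.symm t, K.e_anti hzw.symm u]
    refine core hpq.symm hzw.symm h4 (fun e => hopp (Or.inr ⟨e.symm, h4.symm⟩)) (-t) (-u)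
      (by rwa [← K.e_anti hzw.symm]) ?_
    exact fun a b => hsum q z a (Or.inr ⟨rfl, Or.inr h4⟩) (Or.inl rfl) (by rw [b]; ring)
  rw [(K.e_comm hpq hzw h3 h4 h1 h2 t u).eq, mul_inv_cancel_right]
  exact hmem

theorem conj_closure {H : Type*} [Group H] (c : H) (S : Set H) (T : Subgroup H)
    (h : ∀ g ∈ S, c * g * c⁻¹ ∈ T) {g : H} (hg : g ∈ Subgroup.closure S) : c * g * c⁻¹ ∈ T :=
  (Subgroup.closure_le (T.comap (MulAut.conj c).toMonoidHom)).2 h hg

/-- The positive unipotent group. -/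
def U : Subgroup (Amb F G l) := Subgroup.closure {g | ∃ z w t, Pos z w ∧ g = K.e z w t}

/-- The positive roots other than one. -/
def Uex (p q : II l) : Subgroup (Amb F G l) :=
  Subgroup.closure {g | ∃ z w t, Pos z w ∧ ¬ Same p q z w ∧ g = K.e z w t}

theorem Uex_le (p q : II l) : K.Uex p q ≤ K.U :=
  Subgroup.closure_mono fun _ ⟨z, w, t, h, _, e⟩ => ⟨z, w, t, h, e⟩

theorem e_mem_U {z w : II l} (h : Pos z w) (t : F) : K.e z w t ∈ K.U := Subgroup.subset_closure ⟨z, w, t, h, rfl⟩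

theorem Uex_norm {p q : II l} (hpq : Pos p q) (t : F) {g : Amb F G l} (hg : g ∈ K.Uex p q) :
    K.e p q t * g * (K.e p q t)⁻¹ ∈ K.Uex p q := by
  refine conj_closure _ _ _ ?_ hg
  rintro _ ⟨z, w, u, hzw, hne, rfl⟩
  refine K.conj_gen hpq.1 hzw.1 t u _ ?_ (Subgroup.subset_closure ⟨z, w, u, hzw, hne, rfl⟩) ?_
  · rintro (⟨rfl, rfl⟩ | ⟨rfl, rfl⟩) <;> have := hpq.2 <;> have := hzw.2 <;>
      simp only [ht'_swap] at * <;> omega
  · intro r s hrs _ _ hh v
    refine Subgroup.subset_closure ⟨r, s, v, ⟨hrs, ?_⟩, ?_, rfl⟩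
    · have := hpq.2; have := hzw.2; omega
    · rintro (⟨rfl, rfl⟩ | ⟨rfl, rfl⟩) <;> have := hzw.2 <;> omega

theorem U_split {p q : II l} (hpq : Pos p q) {g : Amb F G l} (hg : g ∈ K.U) :
    ∃ u ∈ K.Uex p q, ∃ s, g = u * K.e p q s := by
  induction hg using Subgroup.closure_induction with
  | mem g hg =>
    obtain ⟨z, w, t, hzw, rfl⟩ := hg
    by_cases hs : Same p q z w
    · rcases hs with ⟨rfl, rfl⟩ | ⟨rfl, rfl⟩
      · exact ⟨1, one_mem _, t, (one_mul _).symm⟩
      · exact ⟨1, one_mem _, -t, by rw [one_mul, ← K.e_anti hpq.1]⟩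
    · exact ⟨_, Subgroup.subset_closure ⟨z, w, t, hzw, hs, rfl⟩, 0, by rw [K.e_zero hpq.1, mul_one]⟩
  | one => exact ⟨1, one_mem _, 0, by rw [K.e_zero hpq.1, mul_one]⟩
  | mul a b _ _ ha hb =>
    obtain ⟨u, hu, s, rfl⟩ := ha
    obtain ⟨v, hv, r, rfl⟩ := hb
    refine ⟨u * (K.e p q s * v * (K.e p q s)⁻¹), mul_mem hu (K.Uex_norm hpq s hv), s + r, ?_⟩
    rw [← K.e_add hpq.1]; group
  | inv a _ ha =>
    obtain ⟨u, hu, s, rfl⟩ := ha
    refine ⟨K.e p q (-s) * u⁻¹ * (K.e p q (-s))⁻¹, K.Uex_norm hpq _ (inv_mem hu), -s, ?_⟩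
    rw [← K.e_inv hpq.1]; group

/-- The decomposed elements. -/
def Cells : Set (Amb F G l) :=
  {g | ∃ u ∈ K.U, ∃ n π k, K.Mon n π k ∧ ∃ v ∈ K.U, g = u * n * v}

theorem U_mul_Cells {a g : Amb F G l} (ha : a ∈ K.U) (hg : g ∈ K.Cells) : a * g ∈ K.Cells := by
  obtain ⟨u, hu, n, π, k, hn, v, hv, rfl⟩ := hg
  exact ⟨a * u, mul_mem ha hu, n, π, k, hn, v, hv, by group⟩

theorem M_mul_Cells {p q : II l} (hpq : Simple p q) {t : F} (ht : t ≠ 0) {g : Amb F G l} (hg : g ∈ K.Cells) :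
    K.M p q t * g ∈ K.Cells := by
  obtain ⟨u, hu, n, π, k, hn, v, hv, rfl⟩ := hg
  have hpos : Pos p q := ⟨hpq.1, by rw [hpq.2]; exact one_pos⟩
  obtain ⟨u1, hu1, s, rfl⟩ := K.U_split hpos hu
  have hm := K.M_mon hpq.1 ht
  have hM1 : K.M p q t * u1 * (K.M p q t)⁻¹ ∈ K.U := by
    refine conj_closure _ _ _ ?_ hu1
    rintro _ ⟨z, w, c, hzw, hne, rfl⟩
    rw [hm.conj hzw.1]
    exact K.e_mem_U (refl_pos hpq hzw hne) _
  -- pulling a root element through a monomial
  have pull : ∀ (n : Amb F G l) (π : Equiv.Perm (II l)) (k : II l → F), K.Mon n π k →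
      0 < ht' (π.symm p) + ht' (π.symm q) → ∀ c : F, ∃ v ∈ K.U, K.e p q c * n = n * v := by
    intro n π k hn h c
    have hpl : pl (π.symm p) ≠ pl (π.symm q) := by
      intro e
      rcases pl_eq e with e | e
      · exact hpq.1 (by rw [π.symm.injective e])
      · refine hpq.1 ?_
        rw [← π.apply_symm_apply p, e, hn.comm_swap, π.apply_symm_apply, pl_swap]
    refine ⟨K.e (π.symm p) (π.symm q) (c / (k (π.symm p) * k (π.symm q))), K.e_mem_U ⟨hpl, h⟩ _, ?_⟩
    have e := hn.conj hpl (c / (k (π.symm p) * k (π.symm q)))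
    rw [π.apply_symm_apply, π.apply_symm_apply,
      mul_div_cancel₀ _ (mul_ne_zero (hn.k_ne _) (hn.k_ne _))] at e
    exact (mul_inv_eq_iff_eq_mul.1 e).symm
  suffices h : K.M p q t * K.e p q s * n * v ∈ K.Cells by
    have e : K.M p q t * (u1 * K.e p q s * n * v) =
        (K.M p q t * u1 * (K.M p q t)⁻¹) * (K.M p q t * K.e p q s * n * v) := by group
    rw [e]
    exact K.U_mul_Cells hM1 h
  by_cases hsym : 0 < ht' (π.symm p) + ht' (π.symm q)
  · obtain ⟨v', hv', e⟩ := pull n π k hn hsym s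
    refine ⟨1, one_mem _, _, _, _, hm.mul hn, v' * v, mul_mem hv' hv, ?_⟩
    rw [mul_assoc (K.M p q t), e]; group
  by_cases hs : s = 0
  · refine ⟨1, one_mem _, _, _, _, hm.mul hn, v, hv, ?_⟩
    rw [hs, K.e_zero hpq.1]; group
  obtain ⟨r, hr0, hr⟩ : ∃ r : F, r ≠ 0 ∧ K.M p q t * K.e p q s = K.e q.swap p.swap r * K.M p q t := by
    obtain ⟨r1, -, -, r4, -⟩ := refl_val hpq.1
    obtain ⟨k1, -, -, k4⟩ := scal_val hpq.1 t
    refine ⟨t * -t * s, mul_ne_zero (mul_ne_zero ht (neg_ne_zero.2 ht)) hs, ?_⟩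
    rw [← mul_inv_eq_iff_eq_mul, hm.conj hpq.1, r1, r4, k1, k4]
  have hy : K.e q.swap p.swap r = K.e p q r⁻¹ * K.M p q r * K.e p q r⁻¹ := by
    rw [M, ← K.e_inv hpq.1]; group
  have hn2 := hm.mul hn
  have h2 : 0 < ht' ((refl p q * π).symm p) + ht' ((refl p q * π).symm q) := by
    obtain ⟨r1, r2, r3, r4, -⟩ := refl_val hpq.1
    have e1 : (refl p q * π).symm p = (π.symm q).swap := by
      rw [Equiv.symm_apply_eq, Equiv.Perm.coe_mul, Function.comp_apply, hn.comm_swap, π.apply_symm_apply, r2]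
    have e2 : (refl p q * π).symm q = (π.symm p).swap := by
      rw [Equiv.symm_apply_eq, Equiv.Perm.coe_mul, Function.comp_apply, hn.comm_swap, π.apply_symm_apply, r3]
    have hpl : pl (π.symm p) ≠ pl (π.symm q) := by
      intro e
      rcases pl_eq e with e | e
      · exact hpq.1 (by rw [π.symm.injective e])
      · refine hpq.1 ?_
        rw [← π.apply_symm_apply p, e, hn.comm_swap, π.apply_symm_apply, pl_swap]
    have := ht'_ne hpl
    rw [e1, e2, ht'_swap, ht'_swap]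
    omega
  obtain ⟨v', hv', e'⟩ := pull _ _ _ hn2 h2 r⁻¹
  refine ⟨K.e p q r⁻¹, K.e_mem_U hpos _, _, _, _, (K.M_mon hpq.1 hr0).mul hn2, v' * v, mul_mem hv' hv, ?_⟩
  rw [hr, hy]
  calc K.e p q r⁻¹ * K.M p q r * K.e p q r⁻¹ * K.M p q t * n * v =
        K.e p q r⁻¹ * K.M p q r * (K.e p q r⁻¹ * (K.M p q t * n)) * v := by group
    _ = _ := by rw [e']; group

/-- The graph group. -/
def Gam : Subgroup (Amb F G l) := Subgroup.closure {g | ∃ z w t, pl z ≠ pl w ∧ g = K.e z w t}

/-- Generators: the positive group and the simple monomials. -/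
def gen0 : Set (Amb F G l) :=
  {g | g ∈ K.U ∨ ∃ p q t, Simple p q ∧ t ≠ 0 ∧ g = K.M p q t}

theorem Cells_of_gen0 {g : Amb F G l} (hg : g ∈ Subgroup.closure K.gen0) : g ∈ K.Cells := by
  induction hg using Subgroup.closure_induction_left with
  | one => exact ⟨1, one_mem _, 1, _, _, Mon.one, 1, one_mem _, by group⟩
  | mul_left y hy a _ ha =>
    rcases hy with h | ⟨p, q, t, h, ht, rfl⟩
    · exact K.U_mul_Cells h ha
    · exact K.M_mul_Cells h ht ha
  | inv_mul_cancel y hy a _ ha =>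
    rcases hy with h | ⟨p, q, t, h, ht, rfl⟩
    · exact K.U_mul_Cells (inv_mem h) ha
    · rw [K.M_inv h.1]; exact K.M_mul_Cells h (neg_ne_zero.2 ht) ha

theorem exists_ht {m : ℤ} (h0 : 0 ≤ m) (h1 : m ≤ (l : ℤ) + 1) : ∃ v : II l, ht' v = m :=
  ⟨Sum.inl ⟨l + 1 - m.toNat, by omega⟩, by simp only [ht', Sum.elim_inl]; omega⟩

theorem e_mem_gen0 (z w : II l) (hzw : pl z ≠ pl w) (t : F) : K.e z w t ∈ Subgroup.closure K.gen0 := by
  have hpos : ∀ z w, Pos z w → ∀ t, K.e z w t ∈ Subgroup.closure K.gen0 := fun z w h t =>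
    Subgroup.subset_closure (Or.inl (K.e_mem_U h t))
  suffices hneg : ∀ (k : ℕ) (z w : II l), Pos z w → ht' z + ht' w = (k : ℤ) → ∀ t,
      K.e z.swap w.swap t ∈ Subgroup.closure K.gen0 by
    by_cases h : 0 < ht' z + ht' w
    · exact hpos z w ⟨hzw, h⟩ t
    · have := ht'_ne hzw
      have h' : Pos z.swap w.swap := ⟨by rw [pl_swap, pl_swap]; exact hzw, by rw [ht'_swap, ht'_swap]; omega⟩
      have := hneg (ht' z.swap + ht' w.swap).toNat _ _ h' (Int.toNat_of_nonneg h'.2.le).symm t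
      rwa [Sum.swap_swap, Sum.swap_swap] at this
  intro k
  induction k with
  | zero => intro z w h e; have := h.2; omega
  | succ k ih =>
    intro z w ⟨hzw, hp⟩ hk t
    rcases Nat.eq_zero_or_pos k with hk0 | hk0
    · subst hk0
      have hs : Simple z w := ⟨hzw, by omega⟩
      have hm : K.M z w 1 ∈ Subgroup.closure K.gen0 := Subgroup.subset_closure (Or.inr ⟨z, w, 1, hs, one_ne_zero, rfl⟩)
      have he : K.M z w 1 * K.e z w t * (K.M z w 1)⁻¹ ∈ Subgroup.closure K.gen0 :=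
        mul_mem (mul_mem hm (hpos z w ⟨hzw, hp⟩ t)) (inv_mem hm)
      obtain ⟨r1, -, -, r4, -⟩ := refl_val hzw
      obtain ⟨k1, -, -, k4⟩ := scal_val hzw (1 : F)
      rw [(K.M_mon hzw one_ne_zero).conj hzw, r1, r4, k1, k4] at he
      rw [K.e_anti (x := w.swap) (y := z.swap) (by rw [pl_swap, pl_swap]; exact hzw.symm)]
      simpa using he
    have split : ∀ z w : II l, pl z ≠ pl w → 0 ≤ ht' z → -ht' z < ht' w → ht' w < ht' z →
        ht' z + ht' w = ((k + 1 : ℕ) : ℤ) → ∀ t, K.e z.swap w.swap t ∈ Subgroup.closure K.gen0 := by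
      intro z w hzw hz0 hw1 hw2 hk t
      obtain ⟨m, hm0, hm1, hcase⟩ : ∃ m : ℤ, 0 ≤ m ∧ m ≤ (l : ℤ) + 1 ∧
          ((m = ht' z - 1 ∧ ht' w ≠ m) ∨ (m = ht' w - 1 ∧ ht' w = ht' z - 1)) := by
        have hb : ht' z ≤ (l : ℤ) + 1 := by rcases z with i | i <;> simp [ht'] <;> omega
        by_cases hc : ht' w = ht' z - 1
        · exact ⟨ht' w - 1, by omega, by omega, Or.inr ⟨rfl, hc⟩⟩
        · exact ⟨ht' z - 1, by omega, by omega, Or.inl ⟨rfl, hc⟩⟩
      obtain ⟨v, hv⟩ := exists_ht hm0 hm1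
      -- the middle coordinate `y`
      obtain ⟨y, h1, h2, hlow⟩ : ∃ y : II l, pl z ≠ pl y ∧ pl y ≠ pl w ∧
          ((ht' z + ht' y = 1 ∧ -ht' y + ht' w = (k : ℤ)) ∨ (ht' z + ht' y = (k : ℤ) ∧ -ht' y + ht' w = 1)) := by
        rcases hcase with ⟨e1, e2⟩ | ⟨e1, e2⟩
        · refine ⟨v.swap, fun e => ?_, fun e => ?_, Or.inl ⟨by rw [ht'_swap]; omega, by rw [ht'_swap]; omega⟩⟩
          · rw [pl_swap] at e
            have : ht' z = ht' v ∨ ht' z = -ht' v := by
              rcases pl_eq e with e | e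
              · exact Or.inl (by rw [e])
              · exact Or.inr (by rw [e, ht'_swap])
            omega
          · rw [pl_swap] at e
            have : ht' v = ht' w ∨ ht' v = -ht' w := by
              rcases pl_eq e with e | e
              · exact Or.inl (by rw [e])
              · exact Or.inr (by rw [e, ht'_swap])
            omega
        · refine ⟨v, fun e => ?_, fun e => ?_, Or.inr ⟨by omega, by omega⟩⟩
          · have : ht' z = ht' v ∨ ht' z = -ht' v := by
              rcases pl_eq e with e | e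
              · exact Or.inl (by rw [e])
              · exact Or.inr (by rw [e, ht'_swap])
            omega
          · have : ht' v = ht' w ∨ ht' v = -ht' w := by
              rcases pl_eq e with e | e
              · exact Or.inl (by rw [e])
              · exact Or.inr (by rw [e, ht'_swap])
            omega
      have hz' : pl z.swap ≠ pl y.swap := by rw [pl_swap, pl_swap]; exact h1
      have hw' : pl y.swap ≠ pl w.swap := by rw [pl_swap, pl_swap]; exact h2
      have hzw' : pl z.swap ≠ pl w.swap := by rw [pl_swap, pl_swap]; exact hzw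
      have e3 := K.e_comm3 hz' hw' hzw' t 1
      rw [mul_one] at e3
      have ex : K.e z.swap w.swap t =
          K.e z.swap y.swap t * K.e y.swap.swap w.swap 1 * (K.e z.swap y.swap t)⁻¹ * (K.e y.swap.swap w.swap 1)⁻¹ := by
        rw [e3]; group
      have one_case : ∀ a b : II l, pl a ≠ pl b → ht' a + ht' b = 1 → ∀ t,
          K.e a.swap b.swap t ∈ Subgroup.closure K.gen0 := by
        intro a b hab hh t
        have hm : K.M a b 1 ∈ Subgroup.closure K.gen0 :=
          Subgroup.subset_closure (Or.inr ⟨a, b, 1, ⟨hab, hh⟩, one_ne_zero, rfl⟩)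
        obtain ⟨r1, -, -, r4, -⟩ := refl_val hab
        obtain ⟨k1, -, -, k4⟩ := scal_val hab (1 : F)
        have he := mul_mem (mul_mem hm (hpos a b ⟨hab, by omega⟩ t)) (inv_mem hm)
        rw [(K.M_mon hab one_ne_zero).conj hab, r1, r4, k1, k4] at he
        rw [K.e_anti (x := b.swap) (y := a.swap) (by rw [pl_swap, pl_swap]; exact hab.symm)]
        simpa using he
      have part : ∀ a b : II l, pl a ≠ pl b → (ht' a + ht' b = 1 ∨ ht' a + ht' b = (k : ℤ)) → ∀ t,
          K.e a.swap b.swap t ∈ Subgroup.closure K.gen0 := by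
        intro a b hab hh t
        rcases hh with hh | hh
        · exact one_case a b hab hh t
        · exact ih a b ⟨hab, by omega⟩ hh t
      have p1 := part z y h1 (by omega) t
      have p2 := part y.swap w (by rw [pl_swap]; exact h2) (by rw [ht'_swap]; omega) 1
      rw [ex]
      exact mul_mem (mul_mem (mul_mem p1 p2) (inv_mem p1)) (inv_mem p2)
    have hdist : ht' z ≠ ht' w := fun e => hzw (ht'_place (Or.inl e))
    rcases lt_or_gt_of_ne hdist with hlt | hlt
    · rw [K.e_anti (x := w.swap) (y := z.swap) (by rw [pl_swap, pl_swap]; exact hzw.symm)]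
      exact split w z hzw.symm (by omega) (by omega) hlt (by omega) _
    · exact split z w hzw (by omega) (by omega) hlt hk t

theorem Gam_cells {g : Amb F G l} (hg : g ∈ K.Gam) : g ∈ K.Cells := by
  refine K.Cells_of_gen0 ?_
  revert g
  show K.Gam ≤ Subgroup.closure K.gen0
  rw [Gam, Subgroup.closure_le]
  rintro _ ⟨z, w, t, h, rfl⟩
  exact K.e_mem_gen0 z w h t

/-- Strictly increasing in height off the diagonal. -/
def Uni (m : Matrix (II l) (II l) F) : Prop :=
  ∀ z, m z z = 1 ∧ ∀ y, y ≠ z → m y z ≠ 0 → ht' z < ht' y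

theorem Uni.mul {A B : Matrix (II l) (II l) F} (hA : Uni A) (hB : Uni B) : Uni (A * B) := by
  intro z
  refine ⟨?_, fun y hy hne => ?_⟩
  · rw [Matrix.mul_apply, Finset.sum_eq_single z]
    · rw [(hA z).1, (hB z).1, one_mul]
    · intro r _ hr
      by_contra h
      have h1 := (hB z).2 r hr (right_ne_zero_of_mul h)
      have h2 := (hA r).2 z hr.symm (left_ne_zero_of_mul h)
      omega
    · intro h; exact absurd (Finset.mem_univ z) h
  · rw [Matrix.mul_apply] at hne
    obtain ⟨r, -, hr⟩ := Finset.exists_ne_zero_of_sum_ne_zero hne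
    by_cases hrz : r = z
    · subst hrz; exact (hA r).2 y hy (left_ne_zero_of_mul hr)
    · have h1 := (hB z).2 r hrz (right_ne_zero_of_mul hr)
      by_cases hyr : y = r
      · subst hyr; exact h1
      · exact h1.trans ((hA r).2 y hyr (left_ne_zero_of_mul hr))

theorem U_uni {g : Amb F G l} (hg : g ∈ K.U) : Uni g.2.1 ∧ Uni (g⁻¹).2.1 := by
  have base : ∀ {z w : II l}, Pos z w → ∀ t : F, Uni (S z w t).1 := by
    intro z w h t x
    rw [S_val h.1]
    simp only [nil, Matrix.add_apply, Matrix.sub_apply, Matrix.single_apply, Matrix.one_apply]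
    refine ⟨?_, fun y hy hne => ?_⟩
    · have h1 : ¬(z = x ∧ w.swap = x) := fun e => (pl_ne_iff.1 h.1).2 (e.1.trans e.2.symm)
      have h2 : ¬(w = x ∧ z.swap = x) := fun e =>
        (pl_ne_iff.1 h.1).2 (by rw [e.1.trans e.2.symm, Sum.swap_swap])
      simp [h1, h2]
    · rw [if_neg hy] at hne
      by_cases h1 : z = y ∧ w.swap = x
      · obtain ⟨rfl, rfl⟩ := h1; have := h.2; rw [ht'_swap]; omega
      · rw [if_neg h1] at hne
        by_cases h2 : w = y ∧ z.swap = x
        · obtain ⟨rfl, rfl⟩ := h2; have := h.2; rw [ht'_swap]; omega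
        · rw [if_neg h2] at hne; simp at hne
  induction hg using Subgroup.closure_induction with
  | mem g hg =>
    obtain ⟨z, w, t, h, rfl⟩ := hg
    refine ⟨base h t, ?_⟩
    rw [K.e_inv h.1]
    exact base h (-t)
  | one =>
    have : Uni (1 : Matrix (II l) (II l) F) := fun z => ⟨Matrix.one_apply_eq z, fun y hy h => absurd (Matrix.one_apply_ne hy) h⟩
    exact ⟨by simpa using this, by simpa using this⟩
  | mul a b _ _ ha hb =>
    exact ⟨by rw [Prod.snd_mul, Units.val_mul]; exact ha.1.mul hb.1,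
      by rw [_root_.mul_inv_rev, Prod.snd_mul, Units.val_mul]; exact hb.2.mul ha.2⟩
  | inv a _ ha => exact ⟨ha.2, by rw [inv_inv]; exact ha.1⟩

/-- The Levi embedding of `SL_n`. -/
def levi : Matrix.SpecialLinearGroup (Fin (l + 2)) F →* GL (II l) F :=
  MonoidHom.toHomUnits
    { toFun := fun g => Matrix.fromBlocks g.1 0 0 (theta g).1
      map_one' := by simp [Matrix.fromBlocks_one]
      map_mul' := fun g h => by simp [Matrix.fromBlocks_multiply] }

theorem levi_tv {i j : Fin (l + 2)} (h : i ≠ j) (t : F) :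
    levi (tv' i j t) = S (Sum.inl i) (Sum.inr j) t := by
  refine Units.ext ?_
  show Matrix.fromBlocks (tv' i j t).1 0 0 (theta (tv' i j t)).1 = _
  rw [theta_tv' h, tv'_val h, tv'_val h.symm, S_val (show pl (Sum.inl i) ≠ pl (Sum.inr j) from h)]
  ext (a | a) (b | b) <;> simp [nil, Matrix.single_apply, Matrix.one_apply]
  split_ifs <;> ring

/-- The pair of homomorphisms. -/
def lv : Matrix.SpecialLinearGroup (Fin (l + 2)) F →* Amb F G l := K.Φ.prod levi

theorem lv_tv {i j : Fin (l + 2)} (h : i ≠ j) (t : F) : K.lv (tv' i j t) = K.e (Sum.inl i) (Sum.inr j) t :=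
  Prod.ext rfl (levi_tv h t)

/-- The commutative unipotent radical, restricted to a set of pairs. -/
def Q (s : Finset (Fin (l + 2) × Fin (l + 2))) : Subgroup (Amb F G l) :=
  Subgroup.closure {g | ∃ i j t, i ≠ j ∧ (i, j) ∈ s ∧ g = K.e (Sum.inl i) (Sum.inl j) t}

theorem Q_comm {i j : Fin (l + 2)} (hij : i ≠ j) (t : F) {s : Finset (Fin (l + 2) × Fin (l + 2))} {g : Amb F G l}
    (hg : g ∈ K.Q s) : Commute (K.e (Sum.inl i) (Sum.inl j) t) g := by
  induction hg using Subgroup.closure_induction with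
  | mem g hg =>
    obtain ⟨a, b, u, hab, -, rfl⟩ := hg
    exact K.e_comm (show pl (Sum.inl i) ≠ pl (Sum.inl j) from hij) (show pl (Sum.inl a) ≠ pl (Sum.inl b) from hab) (by simp) (by simp) (by simp) (by simp) t u
  | one => exact Commute.one_right _
  | mul a b _ _ ha hb => exact ha.mul_right hb
  | inv a _ ha => exact ha.inv_right

theorem Q_form {s : Finset (Fin (l + 2) × Fin (l + 2))} {g : Amb F G l} (hg : g ∈ K.Q s) :
    ∃ B : Matrix (Fin (l + 2)) (Fin (l + 2)) F, g.2.1 = Matrix.fromBlocks 1 B 0 1 ∧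
      ∀ i j, (i, j) ∉ s → (j, i) ∉ s → B i j = 0 := by
  induction hg using Subgroup.closure_induction with
  | mem g hg =>
    obtain ⟨a, b, t, hab, hs, rfl⟩ := hg
    refine ⟨Matrix.single a b t - Matrix.single b a t, ?_, fun i j h1 h2 => ?_⟩
    · show (S _ _ t).1 = _
      rw [S_val (show pl (Sum.inl a) ≠ pl (Sum.inl b) from hab)]
      ext (x | x) (y | y) <;> simp [nil, Matrix.single_apply, Matrix.one_apply]
    · rw [Matrix.sub_apply, Matrix.single_apply, Matrix.single_apply, if_neg, if_neg, sub_zero]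
      · rintro ⟨rfl, rfl⟩; exact h2 hs
      · rintro ⟨rfl, rfl⟩; exact h1 hs
  | one => exact ⟨0, by simp [Matrix.fromBlocks_one], fun i j _ _ => rfl⟩
  | mul a b _ _ ha hb =>
    obtain ⟨A, hA, hA0⟩ := ha
    obtain ⟨B, hB, hB0⟩ := hb
    refine ⟨A + B, ?_, fun i j h1 h2 => by rw [Matrix.add_apply, hA0 i j h1 h2, hB0 i j h1 h2, add_zero]⟩
    rw [Prod.snd_mul, Units.val_mul, hA, hB, Matrix.fromBlocks_multiply]
    simp [add_comm]
  | inv a _ ha =>
    obtain ⟨A, hA, hA0⟩ := ha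
    refine ⟨-A, ?_, fun i j h1 h2 => by rw [Matrix.neg_apply, hA0 i j h1 h2, neg_zero]⟩
    rw [Prod.snd_inv]
    refine (Units.inv_eq_of_mul_eq_one_right ?_)
    rw [hA, Matrix.fromBlocks_multiply]
    simp [Matrix.fromBlocks_one]

theorem Q_inj : ∀ s : Finset (Fin (l + 2) × Fin (l + 2)), (∀ p ∈ s, p.1 < p.2) →
    ∀ g ∈ K.Q s, g.2 = 1 → g = 1 := by
  intro s
  induction s using Finset.induction with
  | empty =>
    intro _ g hg _
    have : K.Q ∅ = ⊥ := by
      rw [Q, Subgroup.closure_eq_bot_iff]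
      rintro x ⟨i, j, t, -, h, -⟩; simp at h
    rwa [this, Subgroup.mem_bot] at hg
  | insert p s hp ih =>
    intro hlt g hg h1
    obtain ⟨i, j⟩ := p
    have hij : i < j := hlt _ (Finset.mem_insert_self _ _)
    obtain ⟨t, q, hq, rfl⟩ : ∃ t, ∃ q ∈ K.Q s, g = K.e (Sum.inl i) (Sum.inl j) t * q := by
      clear h1
      induction hg using Subgroup.closure_induction with
      | mem g hg =>
        obtain ⟨a, b, t, hab, hm, rfl⟩ := hg
        rcases Finset.mem_insert.1 hm with h | h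
        · obtain ⟨rfl, rfl⟩ := Prod.ext_iff.1 h
          exact ⟨t, 1, one_mem _, (mul_one _).symm⟩
        · exact ⟨0, _, Subgroup.subset_closure ⟨a, b, t, hab, h, rfl⟩, by
            rw [K.e_zero (show pl (Sum.inl i) ≠ pl (Sum.inl j) from hij.ne), one_mul]⟩
      | one => exact ⟨0, 1, one_mem _, by
          rw [K.e_zero (show pl (Sum.inl i) ≠ pl (Sum.inl j) from hij.ne), one_mul]⟩
      | mul a b _ _ ha hb =>
        obtain ⟨t, q, hq, rfl⟩ := ha
        obtain ⟨u, r, hr, rfl⟩ := hb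
        refine ⟨t + u, q * r, mul_mem hq hr, ?_⟩
        rw [← K.e_add (show pl (Sum.inl i) ≠ pl (Sum.inl j) from hij.ne), mul_assoc, ← mul_assoc q,
          ← (K.Q_comm hij.ne u hq).eq]
        group
      | inv a _ ha =>
        obtain ⟨t, q, hq, rfl⟩ := ha
        refine ⟨-t, q⁻¹, inv_mem hq, ?_⟩
        rw [← K.e_inv (show pl (Sum.inl i) ≠ pl (Sum.inl j) from hij.ne),
          ((K.Q_comm hij.ne t hq).inv_inv).eq, _root_.mul_inv_rev]
    have ht : t = 0 := by
      obtain ⟨B, hB, hB0⟩ := K.Q_form hq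
      have := congrArg (fun m : GL (II l) F => m.1 (Sum.inl i) (Sum.inr j)) h1
      simp only [Prod.snd_mul, Units.val_mul, hB, Units.val_one] at this
      rw [show (K.e (Sum.inl i) (Sum.inl j) t).2.1 = _ from S_val (show pl (Sum.inl i) ≠ pl (Sum.inl j) from hij.ne) t,
        add_mul, one_mul] at this
      have hb : B i j = 0 := hB0 i j hp (fun h => absurd (hlt _ (Finset.mem_insert_of_mem h)) (not_lt.2 hij.le))
      simpa [nil, Matrix.sub_mul, Matrix.mul_apply, Matrix.single_apply, hb, hij.ne, hij.ne'] using this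
    rw [ht, K.e_zero (show pl (Sum.inl i) ≠ pl (Sum.inl j) from hij.ne), one_mul] at h1 ⊢
    exact ih (fun p hp => hlt p (Finset.mem_insert_of_mem hp)) q hq h1

theorem U_inj {g : Amb F G l} (hg : g ∈ K.U) (h1 : g.2 = 1) : g = 1 := by
  classical
  let s : Finset (Fin (l + 2) × Fin (l + 2)) := Finset.univ.filter fun p => p.1 < p.2
  have hQmem : ∀ i j, i ≠ j → ∀ t, K.e (Sum.inl i) (Sum.inl j) t ∈ K.Q s := by
    intro i j hij t
    rcases lt_or_gt_of_ne hij with h | h
    · exact Subgroup.subset_closure ⟨i, j, t, hij, by simp [s, h], rfl⟩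
    · rw [K.e_anti (x := Sum.inl j) (y := Sum.inl i) hij.symm]
      exact Subgroup.subset_closure ⟨j, i, -t, hij.symm, by simp [s, h], rfl⟩
  have hnorm : K.lv.range ≤ Subgroup.normalizer (K.Q s : Set (Amb F G l)) := by
    rw [MonoidHom.range_eq_map, ← Cfsg.Agent.Classical.sl_closure_transvections, MonoidHom.map_closure,
      Subgroup.closure_le]
    rintro _ ⟨_, ⟨i, j, hij, c, rfl⟩, rfl⟩
    rw [show Matrix.SpecialLinearGroup.transvection hij c = tv' i j c by rw [tv', dif_pos hij], K.lv_tv hij]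
    have key : ∀ (c : F), ∀ y ∈ K.Q s,
        K.e (Sum.inl i) (Sum.inr j) c * y * (K.e (Sum.inl i) (Sum.inr j) c)⁻¹ ∈ K.Q s := by
      intro c y hy
      refine conj_closure _ _ _ ?_ hy
      rintro _ ⟨a, b, u, hab, -, rfl⟩
      refine K.conj_gen (show pl (Sum.inl i) ≠ pl (Sum.inr j) from hij) (show pl (Sum.inl a) ≠ pl (Sum.inl b) from hab) c u _ (by simp [Same]) (hQmem a b hab u) ?_
      intro r s' hrs hr hs' _ v
      rcases hs' with rfl | rfl <;> rcases hr with ⟨rfl, -⟩ | ⟨-, h⟩ <;>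
        first | exact hQmem _ _ hrs v | simp at h
    rw [SetLike.mem_coe, Subgroup.mem_normalizer_iff]
    intro y
    refine ⟨key c y, fun hy => ?_⟩
    have := key (-c) _ hy
    rwa [← K.e_inv (show pl (Sum.inl i) ≠ pl (Sum.inr j) from hij), inv_inv,
      show (K.e (Sum.inl i) (Sum.inr j) c)⁻¹ * (K.e (Sum.inl i) (Sum.inr j) c * y * (K.e (Sum.inl i) (Sum.inr j) c)⁻¹) *
        K.e (Sum.inl i) (Sum.inr j) c = y by group] at this
  have hle : K.U ≤ K.lv.range ⊔ K.Q s := by
    rw [U, Subgroup.closure_le]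
    rintro _ ⟨z, w, t, ⟨hzw, hp⟩, rfl⟩
    rcases z with i | i <;> rcases w with j | j
    · exact Subgroup.mem_sup_right (hQmem i j hzw t)
    · exact Subgroup.mem_sup_left ⟨tv' i j t, K.lv_tv hzw t⟩
    · refine Subgroup.mem_sup_left ⟨tv' j i (-t), ?_⟩
      rw [K.lv_tv (i := j) (j := i) (Ne.symm hzw), ← K.e_anti (x := Sum.inl j) (y := Sum.inr i) (Ne.symm hzw)]
    · have := i.isLt; have := j.isLt
      simp only [ht', Sum.elim_inr] at hp; omega
  have hg' := hle hg
  rw [← SetLike.mem_coe, Subgroup.coe_mul_of_left_le_normalizer_right _ _ hnorm] at hg'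
  obtain ⟨_, ⟨x, rfl⟩, q, hq, rfl⟩ := hg'
  obtain ⟨B, hB, -⟩ := K.Q_form hq
  have e := congrArg (fun m : GL (II l) F => m.1) h1
  simp only [Prod.snd_mul, Units.val_mul, hB, Units.val_one] at e
  rw [show ((K.lv x).2 : GL (II l) F).1 = Matrix.fromBlocks x.1 0 0 (theta x).1 from rfl,
    Matrix.fromBlocks_multiply, ← Matrix.fromBlocks_one, Matrix.fromBlocks_inj] at e
  have hx : x = 1 := Subtype.ext (by simpa using e.1)
  subst hx
  simp only [map_one, one_mul] at h1 ⊢
  exact K.Q_inj s (fun p hp => (Finset.mem_filter.1 hp).2) q hq h1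

/-- The projection to the matrices is injective. -/
theorem Gam_inj (hc : ∀ x : G, (∀ z w t, pl z ≠ pl w → Commute x (K.X z w t)) → x = 1) {g : Amb F G l}
    (hg : g ∈ K.Gam) (h1 : g.2 = 1) : g = 1 := by
  obtain ⟨u, hu, n, π, k, hn, v, hv, rfl⟩ := K.Gam_cells hg
  have hnv : n.2 = ((u⁻¹ * v⁻¹ : Amb F G l)).2 := by
    rw [Prod.snd_mul, Prod.snd_inv, Prod.snd_inv]
    have : u.2 * n.2 * v.2 = 1 := h1
    calc n.2 = u.2⁻¹ * (u.2 * n.2 * v.2) * v.2⁻¹ := by group
      _ = _ := by rw [this, mul_one]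
  have huni : Uni n.2.1 := by
    rw [hnv]; exact (K.U_uni (mul_mem (inv_mem hu) (inv_mem hv))).1
  have hk : ∀ z, π z = z ∧ k z = 1 := by
    intro z
    have e := congrFun (hn.mat z) z
    rw [mulVec_single_one, Matrix.col_apply, (huni z).1, Pi.single_apply] at e
    by_cases hz : z = π z
    · rw [if_pos hz] at e; exact ⟨hz.symm, e.symm⟩
    · rw [if_neg hz] at e; exact absurd e one_ne_zero
  have hn2 : n.2 = 1 := PlusGen.ext_single fun z => by
    rw [hn.mat, (hk z).1, (hk z).2, Units.val_one, one_mulVec]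
  have hn1 : n.1 = 1 := hc _ fun z w t hzw => by
    have e := hn.conjG z w hzw t
    rw [(hk z).1, (hk w).1, (hk z).2, (hk w).2, one_mul, one_mul] at e
    exact mul_inv_eq_iff_eq_mul.1 e
  have hn' : n = 1 := Prod.ext hn1 hn2
  subst hn'
  rw [mul_one] at h1 ⊢
  exact K.U_inj (mul_mem hu hv) h1

end Fork

end Cfsg.Agent.Lie.CTA
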