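import Cfsg.Agent.Lib.Lie.CTA.DN.Mono
import Cfsg.Agent.Lib.Lie.OrthPlusGen

/-!
Two homomorphisms from `SL_n` sharing all but the last node: the root elements of type `D_n` they define.
-/

set_option autoImplicit false
set_option linter.unusedSectionVars false
set_option linter.style.haveILetI false

namespace Cfsg.Agent.Lie.CTA

open Matrix
open Cfsg.Agent.Lie.PlusGen (pl pl_swap)

variable {F : Type*} [Field F] [Fintype F] {G : Type*} [Group G]

local notation "SL2" => Matrix.SpecialLinearGroup (Fin 2) F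

/-- The next to last index. -/
abbrev ia (l : ℕ) : Fin (l + 2) := (Fin.last l).castSucc

/-- The last index. -/
abbrev ib (l : ℕ) : Fin (l + 2) := Fin.last (l + 1)

theorem iab (l : ℕ) : ia l ≠ ib l := (Fin.castSucc_lt_last _).ne

theorem exists_spare {l : ℕ} (hl : 2 ≤ l) (i j p : Fin (l + 2)) : ∃ c, c ≠ i ∧ c ≠ j ∧ c ≠ p := by
  by_contra hcon
  push Not at hcon
  have : (Finset.univ : Finset (Fin (l + 2))) ⊆ {i, j, p} := fun c _ => by
    simp only [Finset.mem_insert, Finset.mem_singleton]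
    by_cases h : c = i
    · exact Or.inl h
    by_cases h' : c = j
    · exact Or.inr (Or.inl h')
    · exact Or.inr (Or.inr (hcon c h h'))
  have h := (Finset.card_le_card this).trans Finset.card_le_three
  rw [Finset.card_univ, Fintype.card_fin] at h
  omega

theorem exists_perm3 {k : ℕ} {a b c i j p : Fin k} (hab : a ≠ b) (hac : a ≠ c) (hbc : b ≠ c) (hij : i ≠ j)
    (hip : i ≠ p) (hjp : j ≠ p) : ∃ π : Equiv.Perm (Fin k), π a = i ∧ π b = j ∧ π c = p := by
  let σ : Equiv.Perm (Fin k) := Equiv.swap a i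
  let τ : Equiv.Perm (Fin k) := Equiv.swap (σ b) j * σ
  have s1 : σ a = i := by simp [σ]
  have t1 : τ a = i := by
    simp only [τ, Equiv.Perm.coe_mul, Function.comp_apply, s1]
    exact Equiv.swap_apply_of_ne_of_ne (fun h => hab (σ.injective (s1.trans h))) hij
  have t2 : τ b = j := by simp [τ]
  refine ⟨Equiv.swap (τ c) p * τ, ?_, ?_, by simp⟩
  · simp only [Equiv.Perm.coe_mul, Function.comp_apply, t1]
    exact Equiv.swap_apply_of_ne_of_ne (fun h => hac (τ.injective (t1.trans h))) hip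
  · simp only [Equiv.Perm.coe_mul, Function.comp_apply, t2]
    exact Equiv.swap_apply_of_ne_of_ne (fun h => hbc (τ.injective (t2.trans h))) hjp

/-- Exchange the two coordinates of one pair. -/
def flipAt {m : ℕ} (k : Fin m) (x : Fin m ⊕ Fin m) : Fin m ⊕ Fin m := if pl x = k then x.swap else x

/-- The two homomorphisms. -/
structure Fork (F : Type*) [Field F] (G : Type*) [Group G] (l : ℕ) where
  two : 2 ≤ l
  Φ : Matrix.SpecialLinearGroup (Fin (l + 2)) F →* G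
  Φ' : Matrix.SpecialLinearGroup (Fin (l + 2)) F →* G
  agree : ∀ p q : Fin (l + 2), p ≠ ib l → q ≠ ib l → ∀ t, Φ (tv' p q t) = Φ' (tv' p q t)
  comm : ∀ g h : Matrix.SpecialLinearGroup (Fin 2) F, Commute (Φ (emb2 (iab l) g)) (Φ' (emb2 (iab l) h))

namespace Fork

variable {l : ℕ} (K : Fork F G l)

/-- The root element of the second last node. -/
def φ (t : F) : G := K.Φ' (tv' (ia l) (ib l) t)

/-- Exchange the two branches. -/
def swap : Fork F G l where
  two := K.two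
  Φ := K.Φ'
  Φ' := K.Φ
  agree p q hp hq t := (K.agree p q hp hq t).symm
  comm g h := (K.comm h g).symm

/-- Follow by an inner automorphism. -/
def conjBy (x : G) : Fork F G l where
  two := K.two
  Φ := (MulAut.conj x).toMonoidHom.comp K.Φ
  Φ' := (MulAut.conj x).toMonoidHom.comp K.Φ'
  agree p q hp hq t := by simp only [MonoidHom.comp_apply, K.agree p q hp hq t]
  comm g h := (K.comm g h).map (MulAut.conj x).toMonoidHom

/-- The dual fork. -/
def dual : Fork F G l where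
  two := K.two
  Φ := K.Φ.comp theta
  Φ' := K.Φ'.comp theta
  agree p q hp hq t := by
    by_cases h : p = q
    · subst h; simp [tv']
    · simp only [MonoidHom.comp_apply, theta_tv' h, K.agree q p hq hp]
  comm g h := by
    simp only [MonoidHom.comp_apply, theta_emb2 (iab l)]
    exact K.comm _ _

theorem dual_dual : K.dual.dual = K := by
  obtain ⟨a, Φ, Φ', b, c⟩ := K
  simp only [dual, Fork.mk.injEq]
  exact ⟨MonoidHom.ext fun g => by simp [theta_theta], MonoidHom.ext fun g => by simp [theta_theta]⟩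

theorem agree_emb {i j : Fin (l + 2)} (h : i ≠ j) (hi : i ≠ ib l) (hj : j ≠ ib l) (g : SL2) :
    K.Φ (emb2 h g) = K.Φ' (emb2 h g) :=
  DFunLike.congr_fun (sl2_hom_ext (f := K.Φ.comp (emb2 h)) (g := K.Φ'.comp (emb2 h))
    (fun t => by rw [MonoidHom.comp_apply, MonoidHom.comp_apply, emb2_ue h, K.agree i j hi hj])
    (fun t => by rw [MonoidHom.comp_apply, MonoidHom.comp_apply, emb2_le' h, K.agree j i hj hi])) g

theorem φ_comm (g : SL2) (t : F) : Commute (K.Φ (emb2 (iab l) g)) (K.φ t) := by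
  rw [φ, ← emb2_ue (iab l)]; exact K.comm _ _

/-- The centraliser of the root group, pulled back. -/
def cen : Subgroup (Matrix.SpecialLinearGroup (Fin (l + 2)) F) :=
  (Subgroup.centralizer (Set.range K.φ)).comap K.Φ

theorem mem_cen {g : Matrix.SpecialLinearGroup (Fin (l + 2)) F} :
    g ∈ K.cen ↔ ∀ u, Commute (K.φ u) (K.Φ g) := by
  rw [cen, Subgroup.mem_comap, Subgroup.mem_centralizer_iff]
  exact ⟨fun h u => h _ ⟨u, rfl⟩, fun h x hx => by obtain ⟨u, rfl⟩ := hx; exact h u⟩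

theorem tv_cen {p q : Fin (l + 2)} (hpq : p ≠ q) (hqa : q ≠ ia l) (hqb : q ≠ ib l) (t : F) : tv' p q t ∈ K.cen := by
  have low : ∀ p q : Fin (l + 2), p ≠ q → p ≠ ib l → q ≠ ia l → q ≠ ib l → ∀ t, tv' p q t ∈ K.cen := by
    intro p q hpq hpb hqa hqb t
    rw [mem_cen]
    intro u
    rw [K.agree p q hpb hqb, φ]
    exact (tv'_comm (iab l) hpq hqa.symm hpb.symm u t).map K.Φ'
  by_cases hpb : p = ib l
  · subst hpb
    have h1 : ∀ s, tv' (ib l) (ia l) s ∈ K.cen := fun s => by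
      rw [mem_cen]; intro u
      rw [← emb2_le' (iab l)]
      exact (K.φ_comm _ u).symm
    have e := tv'_comm3 (iab l).symm hqa.symm hpq t 1
    rw [mul_one] at e
    have : tv' (ib l) q t = tv' (ib l) (ia l) t * tv' (ia l) q 1 * (tv' (ib l) (ia l) t)⁻¹ * (tv' (ia l) q 1)⁻¹ := by
      rw [e]; group
    rw [this]
    have h2 := low (ia l) q hqa.symm (iab l) hqa hqb 1
    exact mul_mem (mul_mem (mul_mem (h1 t) h2) (inv_mem (h1 t))) (inv_mem h2)
  · exact low p q hpq hpb hqa hqb t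

/-- The root element of two vectors. -/
noncomputable def ν (v w : Fin (l + 2) → F) : G :=
  open scoped _root_.Classical in
  if h : ∃ g : Matrix.SpecialLinearGroup (Fin (l + 2)) F, g.1 *ᵥ Pi.single (ia l) 1 = v ∧ g.1 *ᵥ Pi.single (ib l) 1 = w
  then K.Φ h.choose * K.φ 1 * (K.Φ h.choose)⁻¹ else 1

theorem ν_eq {v w : Fin (l + 2) → F} {g : Matrix.SpecialLinearGroup (Fin (l + 2)) F}
    (hv : g.1 *ᵥ Pi.single (ia l) 1 = v) (hw : g.1 *ᵥ Pi.single (ib l) 1 = w) :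
    K.ν v w = K.Φ g * K.φ 1 * (K.Φ g)⁻¹ := by
  have hex : ∃ g : Matrix.SpecialLinearGroup (Fin (l + 2)) F,
      g.1 *ᵥ Pi.single (ia l) 1 = v ∧ g.1 *ᵥ Pi.single (ib l) 1 = w := ⟨g, hv, hw⟩
  rw [ν, dif_pos hex]
  obtain ⟨h1, h2⟩ := hex.choose_spec
  set f := hex.choose
  have hst : g⁻¹ * f ∈ K.cen := by
    refine stab2_mem K.two K.cen (fun p q a b c t => K.tv_cen a b c t) ?_ ?_ <;>
      rw [Matrix.SpecialLinearGroup.coe_mul, ← mulVec_mulVec]
    · rw [h1, ← hv, mulVec_mulVec, ← Matrix.SpecialLinearGroup.coe_mul, inv_mul_cancel,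
        Matrix.SpecialLinearGroup.coe_one, one_mulVec]
    · rw [h2, ← hw, mulVec_mulVec, ← Matrix.SpecialLinearGroup.coe_mul, inv_mul_cancel,
        Matrix.SpecialLinearGroup.coe_one, one_mulVec]
  have hc := K.mem_cen.1 hst 1
  rw [map_mul, map_inv] at hc
  calc K.Φ f * K.φ 1 * (K.Φ f)⁻¹ = K.Φ g * (((K.Φ g)⁻¹ * K.Φ f) * K.φ 1) * (K.Φ f)⁻¹ := by group
    _ = K.Φ g * (K.φ 1 * ((K.Φ g)⁻¹ * K.Φ f)) * (K.Φ f)⁻¹ := by rw [hc.eq]
    _ = _ := by group

theorem ν_none {v w : Fin (l + 2) → F}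
    (h : ∀ g : Matrix.SpecialLinearGroup (Fin (l + 2)) F,
      g.1 *ᵥ Pi.single (ia l) 1 = v → g.1 *ᵥ Pi.single (ib l) 1 ≠ w) : K.ν v w = 1 := by
  rw [ν, dif_neg]
  rintro ⟨g, h1, h2⟩
  exact h g h1 h2

theorem sl_inj {k : ℕ} (g : Matrix.SpecialLinearGroup (Fin k) F) {v w : Fin k → F} (h : g.1 *ᵥ v = g.1 *ᵥ w) :
    v = w := by
  have := congrArg ((g⁻¹).1 *ᵥ ·) h
  simpa only [mulVec_mulVec, ← Matrix.SpecialLinearGroup.coe_mul, inv_mul_cancel, Matrix.SpecialLinearGroup.coe_one,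
    one_mulVec] using this

theorem ν_zero_left (w : Fin (l + 2) → F) : K.ν 0 w = 1 :=
  K.ν_none fun g h _ => one_ne_zero (Pi.single_eq_zero_iff.1 (sl_inj g (h.trans (mulVec_zero _).symm)))

theorem ν_zero_right (v : Fin (l + 2) → F) : K.ν v 0 = 1 :=
  K.ν_none fun g _ h => one_ne_zero (Pi.single_eq_zero_iff.1 (sl_inj g (h.trans (mulVec_zero _).symm)))

theorem ν_equiv (g : Matrix.SpecialLinearGroup (Fin (l + 2)) F) (v w : Fin (l + 2) → F) :
    K.ν (g.1 *ᵥ v) (g.1 *ᵥ w) = K.Φ g * K.ν v w * (K.Φ g)⁻¹ := by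
  by_cases hex : ∃ f : Matrix.SpecialLinearGroup (Fin (l + 2)) F,
      f.1 *ᵥ Pi.single (ia l) 1 = v ∧ f.1 *ᵥ Pi.single (ib l) 1 = w
  · obtain ⟨f, h1, h2⟩ := hex
    rw [K.ν_eq h1 h2, K.ν_eq (g := g * f) (by rw [Matrix.SpecialLinearGroup.coe_mul, ← mulVec_mulVec, h1])
      (by rw [Matrix.SpecialLinearGroup.coe_mul, ← mulVec_mulVec, h2]), map_mul]
    group
  · push Not at hex
    rw [K.ν_none hex, K.ν_none fun f h1 h2 => hex (g⁻¹ * f) ?_ ?_]
    · group
    all_goals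
      rw [Matrix.SpecialLinearGroup.coe_mul, ← mulVec_mulVec]
      first | rw [h1] | rw [h2]
      rw [mulVec_mulVec, ← Matrix.SpecialLinearGroup.coe_mul, inv_mul_cancel, Matrix.SpecialLinearGroup.coe_one,
        one_mulVec]

theorem ν_block {v w : Fin (l + 2) → F} (g : Matrix.SpecialLinearGroup (Fin (l + 2)) F)
    (hv : g.1 *ᵥ Pi.single (ia l) 1 = v) (hw : g.1 *ᵥ Pi.single (ib l) 1 = w) (k : SL2) :
    K.ν (k.1 0 0 • v + k.1 1 0 • w) (k.1 0 1 • v + k.1 1 1 • w) = K.ν v w := by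
  have col : ∀ x y : F, g.1 *ᵥ (Pi.single (ia l) x + Pi.single (ib l) y) = x • v + y • w := fun x y => by
    rw [mulVec_add, ← hv, ← hw, ← mulVec_smul, ← mulVec_smul, ← Pi.single_smul, ← Pi.single_smul, smul_eq_mul,
      smul_eq_mul, mul_one, mul_one]
  rw [K.ν_eq hv hw, K.ν_eq (g := g * emb2 (iab l) k)
    (by rw [Matrix.SpecialLinearGroup.coe_mul, ← mulVec_mulVec, emb2_col, if_pos rfl, col])
    (by rw [Matrix.SpecialLinearGroup.coe_mul, ← mulVec_mulVec, emb2_col, if_neg (iab l).symm, if_pos rfl, col]),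
    map_mul]
  rw [show K.Φ g * K.Φ (emb2 (iab l) k) * K.φ 1 * (K.Φ g * K.Φ (emb2 (iab l) k))⁻¹ =
    K.Φ g * (K.Φ (emb2 (iab l) k) * K.φ 1) * (K.Φ (emb2 (iab l) k))⁻¹ * (K.Φ g)⁻¹ by group, (K.φ_comm k 1).eq]
  group

theorem ν_rot {v w : Fin (l + 2) → F} (g : Matrix.SpecialLinearGroup (Fin (l + 2)) F)
    (hv : g.1 *ᵥ Pi.single (ia l) 1 = v) (hw : g.1 *ᵥ Pi.single (ib l) 1 = w) : K.ν w (-v) = K.ν v w := by
  obtain ⟨k, hk⟩ : ∃ k : SL2, k.1 = !![0, -1; 1, 0] := ⟨⟨_, by rw [det_fin_two_of]; simp⟩, rfl⟩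
  have := K.ν_block g hv hw k
  simpa [hk] using this

include K in
theorem exists_lift {i j : Fin (l + 2)} (hij : i ≠ j) {x y : F} (hx : x ≠ 0) (hy : y ≠ 0) :
    ∃ (g : Matrix.SpecialLinearGroup (Fin (l + 2)) F) (π : Equiv.Perm (Fin (l + 2))) (d : Fin (l + 2) → F),
      IsMono g π d ∧ g.1 *ᵥ Pi.single (ia l) 1 = Pi.single i x ∧ g.1 *ᵥ Pi.single (ib l) 1 = Pi.single j y := by
  obtain ⟨c, hca, hcb, -⟩ := exists_spare K.two (ia l) (ib l) (ib l)
  obtain ⟨p, hpi, hpj, -⟩ := exists_spare K.two i j j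
  obtain ⟨π, h1, h2, -⟩ := exists_perm3 (iab l) hca.symm hcb.symm hij hpi.symm hpj.symm
  obtain ⟨g, d, hg, hd⟩ := exists_mono π (fun s => if s = ia l then x else if s = ib l then y else 1) c
    (fun s _ => by split_ifs <;> simp [hx, hy])
  refine ⟨g, π, d, hg, ?_, ?_⟩
  · rw [hg, h1, hd _ hca.symm, if_pos rfl]
  · rw [hg, h2, hd _ hcb.symm, if_neg (iab l).symm, if_pos rfl]

/-- The root element of two coordinates. -/
noncomputable def n2 (i j : Fin (l + 2)) (t : F) : G := K.ν (Pi.single i t) (Pi.single j 1)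

theorem ν_scale {i j : Fin (l + 2)} (hij : i ≠ j) (x y : F) :
    K.ν (Pi.single i x) (Pi.single j y) = K.n2 i j (x * y) := by
  rcases eq_or_ne x 0 with rfl | hx
  · rw [zero_mul, n2, Pi.single_zero, ν_zero_left, ν_zero_left]
  rcases eq_or_ne y 0 with rfl | hy
  · rw [mul_zero, n2, Pi.single_zero, Pi.single_zero, ν_zero_right, ν_zero_left]
  obtain ⟨g, π, d, -, h1, h2⟩ := K.exists_lift hij hx hy
  obtain ⟨k, hk⟩ : ∃ k : SL2, k.1 = !![y, 0; 0, y⁻¹] := ⟨⟨_, by rw [det_fin_two_of]; simp [hy]⟩, rfl⟩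
  rw [n2, ← K.ν_block g h1 h2 k]
  simp [hk, ← Pi.single_smul, hy, mul_comm]

theorem n2_zero (i j : Fin (l + 2)) : K.n2 i j 0 = 1 := by rw [n2, Pi.single_zero, ν_zero_left]

theorem n2_anti {i j : Fin (l + 2)} (hij : i ≠ j) (t : F) : K.n2 j i t = K.n2 i j (-t) := by
  rcases eq_or_ne t 0 with rfl | ht
  · rw [neg_zero, n2_zero, n2_zero]
  obtain ⟨g, π, d, -, h1, h2⟩ := K.exists_lift hij.symm ht one_ne_zero
  rw [n2, ← K.ν_rot g h1 h2, ← Pi.single_neg, K.ν_scale hij, one_mul]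

theorem base_t (t : F) : K.ν (Pi.single (ia l) t) (Pi.single (ib l) 1) = K.φ t := by
  rcases eq_or_ne t 0 with rfl | ht
  · rw [Pi.single_zero, ν_zero_left, φ, tv'_zero, map_one]
  obtain ⟨c, hca, hcb, -⟩ := exists_spare K.two (ia l) (ib l) (ib l)
  obtain ⟨k, hk⟩ : ∃ k : SL2, k.1 = !![t⁻¹, 0; 0, t] := ⟨⟨_, by rw [det_fin_two_of]; simp [ht]⟩, rfl⟩
  have hm := emb2_diag hca hk
  rw [K.ν_eq (g := emb2 hca k) (by rw [hm]; simp [hca.symm]) (by rw [hm]; simp [hcb.symm, (iab l).symm]),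
    K.agree_emb hca hcb (iab l), φ, ← map_inv, ← map_mul, ← map_mul, hm.conj_tv (iab l)]
  simp [φ, hca.symm, hcb.symm, (iab l).symm]

theorem n2_conj {i j : Fin (l + 2)} (hij : i ≠ j) :
    ∃ g, ∀ t, K.n2 i j t = K.Φ g * K.φ t * (K.Φ g)⁻¹ := by
  obtain ⟨g, π, d, hg, h1, h2⟩ := K.exists_lift hij one_ne_zero one_ne_zero
  refine ⟨g, fun t => ?_⟩
  rw [← K.base_t, ← K.ν_equiv, h2, hg.single]
  have hd : π (ia l) = i ∧ d (ia l) = 1 := by
    have e := (hg (ia l)).symm.trans h1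
    have hne := hg.ne_zero (ia l)
    have e1 : π (ia l) = i := by
      by_contra hc
      have := congrFun e (π (ia l))
      rw [Pi.single_eq_same, Pi.single_eq_of_ne hc] at this
      exact hne this
    exact ⟨e1, by rw [e1] at e; exact Pi.single_injective _ e⟩
  rw [hd.1, hd.2, mul_one, n2]

theorem n2_add {i j : Fin (l + 2)} (hij : i ≠ j) (t u : F) : K.n2 i j t * K.n2 i j u = K.n2 i j (t + u) := by
  obtain ⟨g, hg⟩ := K.n2_conj hij
  rw [hg, hg, hg, φ, φ, φ, ← tv'_add (iab l), map_mul]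
  group

theorem n2_last {i : Fin (l + 2)} (hi : i ≠ ib l) (t : F) : K.n2 i (ib l) t = K.Φ' (tv' i (ib l) t) := by
  by_cases hia : i = ia l
  · subst hia; exact K.base_t t
  obtain ⟨k, hk⟩ : ∃ k : SL2, k.1 = !![0, -1; 1, 0] := ⟨⟨_, by rw [det_fin_two_of]; simp⟩, rfl⟩
  have hm := emb2_anti (Ne.symm hia) hk
  have e1 : (emb2 (Ne.symm hia) k).1 *ᵥ Pi.single (ia l) t = Pi.single i t := by
    rw [hm.single]; simp [Equiv.swap_apply_left]
  have e2 : (emb2 (Ne.symm hia) k).1 *ᵥ Pi.single (ib l) 1 = Pi.single (ib l) 1 := by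
    rw [hm, Equiv.swap_apply_of_ne_of_ne (iab l).symm hi.symm]; simp [(iab l).symm, hi.symm]
  rw [n2, ← e1, ← e2, K.ν_equiv, K.base_t, K.agree_emb (Ne.symm hia) (iab l) hi, φ, ← map_inv, ← map_mul, ← map_mul,
    hm.conj_tv (iab l), Equiv.swap_apply_left, Equiv.swap_apply_of_ne_of_ne (iab l).symm hi.symm]
  simp [(iab l).symm, hi.symm]

theorem comm_last {j : Fin (l + 2)} (hj : j ≠ ib l) (t u : F) :
    Commute (K.Φ (tv' j (ib l) t)) (K.Φ' (tv' j (ib l) u)) := by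
  have base : ∀ t u, Commute (K.Φ (tv' (ia l) (ib l) t)) (K.Φ' (tv' (ia l) (ib l) u)) := fun t u => by
    rw [← emb2_ue (iab l), ← emb2_ue (iab l)]; exact K.comm _ _
  by_cases hja : j = ia l
  · subst hja; exact base t u
  obtain ⟨k, hk⟩ : ∃ k : SL2, k.1 = !![0, -1; 1, 0] := ⟨⟨_, by rw [det_fin_two_of]; simp⟩, rfl⟩
  have hm := emb2_anti (Ne.symm hja) hk
  have conj : ∀ s, emb2 (Ne.symm hja) k * tv' (ia l) (ib l) s * (emb2 (Ne.symm hja) k)⁻¹ = tv' j (ib l) s := fun s => by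
    rw [hm.conj_tv (iab l), Equiv.swap_apply_left, Equiv.swap_apply_of_ne_of_ne (iab l).symm hj.symm]
    simp [(iab l).symm, hj.symm]
  rw [← conj t, ← conj u, map_mul, map_mul, map_mul, map_mul, map_inv, map_inv,
    K.agree_emb (Ne.symm hja) (iab l) hj]
  exact (base t u).map (MulAut.conj (K.Φ' (emb2 (Ne.symm hja) k))).toMonoidHom

theorem ν_add_mono {i p j : Fin (l + 2)} (hip : i ≠ p) (hij : i ≠ j) (hpj : p ≠ j) {x y z : F} (hx : x ≠ 0)
    (hy : y ≠ 0) (hz : z ≠ 0) :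
    K.ν (Pi.single i x + Pi.single p y) (Pi.single j z) =
      K.ν (Pi.single i x) (Pi.single j z) * K.ν (Pi.single p y) (Pi.single j z) := by
  obtain ⟨c, hca, hcb, -⟩ := exists_spare K.two (ia l) (ib l) (ib l)
  obtain ⟨e, hea, heb, hec⟩ := exists_spare K.two (ia l) (ib l) c
  obtain ⟨π, h1, h2, h3⟩ := exists_perm3 (iab l) hca.symm hcb.symm hij hip hpj.symm
  obtain ⟨g, d, hg, hd⟩ := exists_mono π (fun s => if s = ia l then x else if s = ib l then z else y) e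
    (fun s _ => by split_ifs <;> assumption)
  have ea : g.1 *ᵥ Pi.single (ia l) 1 = Pi.single i x := by rw [hg, h1, hd _ hea.symm, if_pos rfl]
  have eb : g.1 *ᵥ Pi.single (ib l) 1 = Pi.single j z := by
    rw [hg, h2, hd _ heb.symm, if_neg (iab l).symm, if_pos rfl]
  have ec : g.1 *ᵥ Pi.single c 1 = Pi.single p y := by rw [hg, h3, hd _ hec.symm, if_neg hca, if_neg hcb]
  have b1 : (tv' c (ia l) (1 : F)).1 *ᵥ Pi.single (ia l) 1 = Pi.single (ia l) 1 + Pi.single c 1 := by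
    rw [tv'_mulVec hca, Pi.single_eq_same, mul_one]
  have b2 : (tv' c (ia l) (1 : F)).1 *ᵥ Pi.single (ib l) 1 = Pi.single (ib l) 1 := by
    rw [tv'_mulVec hca, Pi.single_eq_of_ne (iab l), mul_zero, Pi.single_zero, add_zero]
  have base : K.ν (Pi.single (ia l) 1 + Pi.single c 1) (Pi.single (ib l) 1) =
      K.ν (Pi.single (ia l) 1) (Pi.single (ib l) 1) * K.ν (Pi.single c 1) (Pi.single (ib l) 1) := by
    rw [K.ν_eq b1 b2, K.base_t, show K.ν (Pi.single c 1) (Pi.single (ib l) 1) = K.n2 c (ib l) 1 from rfl,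
      K.n2_last hcb, K.agree c (ia l) hcb (iab l), φ, ← map_inv, ← map_mul, ← map_mul, ← map_mul]
    congr 1
    rw [tv'_comm3 hca (iab l) hcb, mul_one, mul_inv_cancel_right]
    exact (tv'_comm hcb (iab l) hcb (iab l).symm _ _).eq
  rw [← ea, ← eb, ← ec, ← mulVec_add, ν_equiv, ν_equiv, ν_equiv, base]
  group

theorem n2_via_last {i j : Fin (l + 2)} (hij : i ≠ j) (hi : i ≠ ib l) (hj : j ≠ ib l) {t : F} (ht : t ≠ 0) :
    K.Φ (tv' j (ib l) 1) * K.Φ' (tv' i (ib l) t) * (K.Φ (tv' j (ib l) 1))⁻¹ =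
      K.Φ' (tv' i (ib l) t) * K.n2 i j t := by
  rw [← K.n2_last hi, n2, ← K.ν_equiv, tv'_mulVec hj, tv'_mulVec hj, Pi.single_eq_of_ne (Ne.symm hi),
    Pi.single_eq_same, mul_zero, Pi.single_zero, add_zero, mul_one]
  obtain ⟨g, π, d, -, h1, h2⟩ := K.exists_lift hi ht one_ne_zero
  have e1 : (tv' j (ib l) 1 * g).1 *ᵥ Pi.single (ia l) 1 = Pi.single i t := by
    rw [Matrix.SpecialLinearGroup.coe_mul, ← mulVec_mulVec, h1, tv'_mulVec hj, Pi.single_eq_of_ne (Ne.symm hi),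
      mul_zero, Pi.single_zero, add_zero]
  have e2 : (tv' j (ib l) 1 * g).1 *ᵥ Pi.single (ib l) 1 = Pi.single (ib l) 1 + Pi.single j 1 := by
    rw [Matrix.SpecialLinearGroup.coe_mul, ← mulVec_mulVec, h2, tv'_mulVec hj, Pi.single_eq_same, mul_one]
  rw [← K.ν_rot _ e1 e2, ← Pi.single_neg,
    K.ν_add_mono hj.symm hi.symm hij.symm one_ne_zero one_ne_zero (neg_ne_zero.2 ht), K.ν_scale hi.symm,
    K.ν_scale hij.symm, one_mul, K.n2_anti hi, K.n2_anti hij, _root_.neg_neg]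
  rfl

theorem n2_swap {i j : Fin (l + 2)} (hij : i ≠ j) (hi : i ≠ ib l) (hj : j ≠ ib l) (t : F) :
    K.swap.n2 i j t = K.n2 i j t := by
  rcases eq_or_ne t 0 with rfl | ht
  · rw [n2_zero, n2_zero]
  have hQ := K.n2_via_last hij hi hj ht
  have hP := K.swap.n2_via_last hij hi hj ht
  change K.Φ' (tv' j (ib l) 1) * K.Φ (tv' i (ib l) t) * (K.Φ' (tv' j (ib l) 1))⁻¹ =
    K.Φ (tv' i (ib l) t) * K.swap.n2 i j t at hP
  set A := K.Φ (tv' j (ib l) 1)
  set B := K.Φ' (tv' j (ib l) 1)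
  set P := K.Φ (tv' i (ib l) t)
  set Q := K.Φ' (tv' i (ib l) t)
  set C := K.Φ (tv' i j t)
  have hAB : A * B = B * A := (K.comm_last hj 1 1).eq
  have hPQ : P * Q = Q * P := (K.comm_last hi t t).eq
  have hQB : Q * B = B * Q := ((tv'_comm hi hj hi hj.symm t 1).map K.Φ').eq
  have hPA : P * A = A * P := ((tv'_comm hi hj hi hj.symm t 1).map K.Φ).eq
  have hCA : C * A = P * A * C := by
    simp only [C, A, P, ← map_mul]; rw [tv'_comm3 hij hj hi, mul_one]
  have hCB : C * B = Q * B * C := by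
    simp only [C, B, Q]; rw [K.agree i j hi hj, ← map_mul, ← map_mul, ← map_mul, tv'_comm3 hij hj hi, mul_one]
  have key : P * A * Q * B = Q * B * P * A := mul_right_cancel (b := C) <|
    calc P * A * Q * B * C = P * A * (Q * B * C) := by group
      _ = (P * A * C) * B := by rw [← hCB]; group
      _ = C * (A * B) := by rw [← hCA]; group
      _ = (C * B) * A := by rw [hAB]; group
      _ = Q * B * (C * A) := by rw [hCB]; group
      _ = Q * B * P * A * C := by rw [hCA]; group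
  have main : A * Q * A⁻¹ = Q * (P⁻¹ * (B * P * B⁻¹)) :=
    calc A * Q * A⁻¹ = P⁻¹ * (P * A * Q * B) * B⁻¹ * A⁻¹ := by group
      _ = P⁻¹ * Q * B * P * (A * B⁻¹ * A⁻¹) := by rw [key]; group
      _ = P⁻¹ * Q * B * P * B⁻¹ := by
          rw [show A * B⁻¹ = B⁻¹ * A from (Commute.inv_right hAB).eq]; group
      _ = (P⁻¹ * Q) * (B * P * B⁻¹) := by group
      _ = _ := by rw [((Commute.inv_left (show Commute P Q from hPQ))).eq]; group
  rw [hQ, hP, inv_mul_cancel_left] at main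
  exact (mul_left_cancel main).symm

/-- The root element of two signed coordinates. -/
noncomputable def X : Fin (l + 2) ⊕ Fin (l + 2) → Fin (l + 2) ⊕ Fin (l + 2) → F → G
  | .inl i, .inr j, t => K.Φ (tv' i j t)
  | .inr j, .inl i, t => K.Φ (tv' i j (-t))
  | .inl i, .inl j, t => K.n2 i j t
  | .inr i, .inr j, t => K.dual.n2 i j t

theorem X_dual (x y : Fin (l + 2) ⊕ Fin (l + 2)) (hxy : pl x ≠ pl y) (t : F) :
    K.dual.X x.swap y.swap t = K.X x y t := by
  rcases x with i | i <;> rcases y with j | j <;> simp only [pl, Sum.elim_inl, Sum.elim_inr, id] at hxy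
  · show K.dual.dual.n2 i j t = K.n2 i j t
    rw [dual_dual]
  · simp [X, dual, theta_tv' (Ne.symm hxy)]
  · simp [X, dual, theta_tv' hxy]
  · show K.dual.n2 i j t = K.dual.n2 i j t
    rfl

theorem X_anti (x y : Fin (l + 2) ⊕ Fin (l + 2)) (hxy : pl x ≠ pl y) (t : F) : K.X y x t = K.X x y (-t) := by
  rcases x with i | i <;> rcases y with j | j <;> simp only [pl, Sum.elim_inl, Sum.elim_inr, id] at hxy
  · exact K.n2_anti hxy t
  · rfl
  · simp [X]
  · exact K.dual.n2_anti hxy t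

theorem swap_X_aux {i : Fin (l + 2)} (hi : i ≠ ib l) (y : Fin (l + 2) ⊕ Fin (l + 2)) (hy : i ≠ pl y) (t : F) :
    K.swap.X (Sum.inl i) (flipAt (ib l) y) t = K.X (Sum.inl i) y t := by
  rcases y with j | j <;> simp only [pl, Sum.elim_inl, Sum.elim_inr, id] at hy <;> by_cases hj : j = ib l
  · subst hj
    rw [show flipAt (ib l) (Sum.inl (ib l)) = Sum.inr (ib l) from if_pos rfl]
    exact (K.n2_last hi t).symm
  · rw [show flipAt (ib l) (Sum.inl j) = Sum.inl j from if_neg hj]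
    exact K.n2_swap hy hi hj t
  · subst hj
    rw [show flipAt (ib l) (Sum.inr (ib l)) = Sum.inl (ib l) from if_pos rfl]
    exact K.swap.n2_last hi t
  · rw [show flipAt (ib l) (Sum.inr j) = Sum.inr j from if_neg hj]
    exact (K.agree i j hi hj t).symm

theorem flipAt_swap {m : ℕ} (k : Fin m) (x : Fin m ⊕ Fin m) : flipAt k x.swap = (flipAt k x).swap := by
  unfold flipAt; rw [pl_swap]; split_ifs <;> rfl

theorem pl_flipAt {m : ℕ} (k : Fin m) (x : Fin m ⊕ Fin m) : pl (flipAt k x) = pl x := by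
  unfold flipAt; split_ifs
  · exact pl_swap x
  · rfl

theorem swap_X (x y : Fin (l + 2) ⊕ Fin (l + 2)) (hxy : pl x ≠ pl y) (t : F) :
    K.swap.X (flipAt (ib l) x) (flipAt (ib l) y) t = K.X x y t := by
  have low : ∀ (K : Fork F G l) (x y : Fin (l + 2) ⊕ Fin (l + 2)), pl x ≠ pl y → pl x ≠ ib l → ∀ t,
      K.swap.X (flipAt (ib l) x) (flipAt (ib l) y) t = K.X x y t := by
    intro K x y hxy hx t
    rcases x with i | i
    · rw [show flipAt (ib l) (Sum.inl i) = Sum.inl i from if_neg hx]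
      exact K.swap_X_aux hx y hxy t
    · rw [show flipAt (ib l) (Sum.inr i) = Sum.inr i from if_neg hx, ← K.X_dual _ _ hxy,
        ← K.swap.X_dual _ _ (by rw [pl_flipAt]; exact hxy), ← flipAt_swap]
      exact K.dual.swap_X_aux hx y.swap (by rw [pl_swap]; exact hxy) t
  by_cases hx : pl x = ib l
  · rw [K.X_anti y x hxy.symm, K.swap.X_anti (flipAt (ib l) y) _ (by rw [pl_flipAt, pl_flipAt]; exact hxy.symm)]
    exact low K y x hxy.symm (fun h => hxy (hx.trans h.symm)) (-t)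
  · exact low K x y hxy hx t

theorem conjBy_ν (x : G) (v w : Fin (l + 2) → F) : (K.conjBy x).ν v w = MulAut.conj x (K.ν v w) := by
  by_cases hex : ∃ f : Matrix.SpecialLinearGroup (Fin (l + 2)) F,
      f.1 *ᵥ Pi.single (ia l) 1 = v ∧ f.1 *ᵥ Pi.single (ib l) 1 = w
  · obtain ⟨f, h1, h2⟩ := hex
    rw [K.ν_eq h1 h2, (K.conjBy x).ν_eq h1 h2, map_mul, map_mul, map_inv]
    rfl
  · push Not at hex
    rw [K.ν_none hex, (K.conjBy x).ν_none hex, map_one]

theorem conjBy_X (g : G) (x y : Fin (l + 2) ⊕ Fin (l + 2)) (t : F) :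
    (K.conjBy g).X x y t = MulAut.conj g (K.X x y t) := by
  rcases x with i | i <;> rcases y with j | j
  · exact K.conjBy_ν g _ _
  · rfl
  · rfl
  · exact K.dual.conjBy_ν g _ _

end Fork

end Cfsg.Agent.Lie.CTA
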