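import Cfsg.Agent.Lib.Lie.CTA.DN.Rels

/-!
Root elements of type `D_n` as pairs (element of the group, matrix), with their relations and monomial elements.
-/

set_option autoImplicit false
set_option linter.unusedSectionVars false
set_option linter.unusedSimpArgs false
set_option linter.style.haveILetI false

namespace Cfsg.Agent.Lie.CTA

open Matrix
open Cfsg.Agent.Lie.PlusGen (pl pl_swap swap_ne sel)

variable {F : Type*} [Field F] [Fintype F] {G : Type*} [Group G]

/-- The nilpotent part of a root element. -/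
def nil {m : ℕ} (x y : Fin m ⊕ Fin m) (t : F) : Matrix (Fin m ⊕ Fin m) (Fin m ⊕ Fin m) F :=
  Matrix.single x y.swap t - Matrix.single y x.swap t

theorem nil_neg {m : ℕ} (x y : Fin m ⊕ Fin m) (t : F) : nil x y (-t) = -nil x y t := by
  ext a b
  simp only [nil, Matrix.sub_apply, Matrix.neg_apply, Matrix.single_apply]
  split_ifs <;> ring

theorem nil_symm {m : ℕ} (x y : Fin m ⊕ Fin m) (t : F) : nil y x t = nil x y (-t) := by
  rw [nil_neg, nil, nil, neg_sub]

theorem pl_eq {m : ℕ} {x y : Fin m ⊕ Fin m} (h : pl x = pl y) : x = y ∨ x = y.swap := by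
  rcases x with i | i <;> rcases y with j | j <;> simp_all [pl]

theorem pl_ne_iff {m : ℕ} {x y : Fin m ⊕ Fin m} : pl x ≠ pl y ↔ x ≠ y ∧ x ≠ y.swap :=
  ⟨fun h => ⟨fun e => h (by rw [e]), fun e => h (by rw [e, pl_swap])⟩,
    fun h e => (pl_eq e).elim h.1 h.2⟩

theorem nil_mul {m : ℕ} {x y z w : Fin m ⊕ Fin m} (h1 : y.swap ≠ z) (h2 : y.swap ≠ w) (h3 : x.swap ≠ z)
    (h4 : x.swap ≠ w) (t u : F) : nil x y t * nil z w u = 0 := by
  simp [nil, Matrix.sub_mul, Matrix.mul_sub, h1, h2, h3, h4]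

theorem nil_sq {m : ℕ} {x y : Fin m ⊕ Fin m} (h : pl x ≠ pl y) (t u : F) : nil x y t * nil x y u = 0 := by
  obtain ⟨-, h2⟩ := pl_ne_iff.1 h
  exact nil_mul h2.symm (swap_ne y) (swap_ne x)
    (fun e => h (by rw [← e, pl_swap])) t u

/-- The matrix root element. -/
noncomputable def S {m : ℕ} (x y : Fin m ⊕ Fin m) (t : F) : GL (Fin m ⊕ Fin m) F :=
  if h : pl x ≠ pl y then
    ⟨1 + nil x y t, 1 + nil x y (-t),
      by rw [add_mul, mul_add, mul_add, nil_sq h, nil_neg]; simp,
      by rw [add_mul, mul_add, mul_add, nil_sq h, nil_neg]; simp⟩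
  else 1

theorem S_val {m : ℕ} {x y : Fin m ⊕ Fin m} (h : pl x ≠ pl y) (t : F) : (S x y t).1 = 1 + nil x y t := by
  rw [S, dif_pos h]

theorem S_mulVec {m : ℕ} {x y : Fin m ⊕ Fin m} (h : pl x ≠ pl y) (t : F) (v : Fin m ⊕ Fin m → F) :
    (S x y t).1 *ᵥ v = sel x y t v := by
  rw [S_val h, add_mulVec, one_mulVec, nil, sub_mulVec]
  funext r
  simp [PlusGen.sel_apply, Matrix.single_mulVec, Function.update_apply, add_sub_assoc]

theorem S_single {m : ℕ} {x y : Fin m ⊕ Fin m} (h : pl x ≠ pl y) (t : F) (z : Fin m ⊕ Fin m) (c : F) :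
    (S x y t).1 *ᵥ Pi.single z c = Pi.single z c + (if y.swap = z then Pi.single x (t * c) else 0) -
      (if x.swap = z then Pi.single y (t * c) else 0) := by
  rw [S_mulVec h, sel]
  by_cases h1 : y.swap = z <;> by_cases h2 : x.swap = z <;> simp [h1, h2]

variable {l : ℕ}

/-- The signed coordinates. -/
abbrev II (l : ℕ) : Type := Fin (l + 2) ⊕ Fin (l + 2)

/-- The ambient group. -/
abbrev Amb (F : Type*) [Field F] (G : Type*) [Group G] (l : ℕ) : Type _ := G × GL (II l) F

namespace Fork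

variable (K : Fork F G l)

/-- The root element in the product. -/
noncomputable def e (x y : II l) (t : F) : Amb F G l := (K.X x y t, S x y t)

theorem e_add {x y : II l} (h : pl x ≠ pl y) (t u : F) : K.e x y t * K.e x y u = K.e x y (t + u) :=
  Prod.ext (K.X_add x y h t u) (Units.ext (by
    show (S x y t).1 * (S x y u).1 = (S x y (t + u)).1
    rw [S_val h, S_val h, S_val h, add_mul, mul_add, mul_add, nil_sq h]
    simp [nil, Matrix.single_add]; abel))

theorem e_zero {x y : II l} (h : pl x ≠ pl y) : K.e x y (0 : F) = 1 :=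
  Prod.ext (K.X_zero x y h) (Units.ext (by show (S x y (0 : F)).1 = 1; rw [S_val h]; simp [nil]))

theorem e_inv {x y : II l} (h : pl x ≠ pl y) (t : F) : (K.e x y t)⁻¹ = K.e x y (-t) :=
  inv_eq_of_mul_eq_one_right (by rw [K.e_add h, add_neg_cancel, K.e_zero h])

theorem e_anti {x y : II l} (h : pl x ≠ pl y) (t : F) : K.e y x t = K.e x y (-t) :=
  Prod.ext (K.X_anti x y h t) (Units.ext (by
    show (S y x t).1 = (S x y (-t)).1
    rw [S_val h, S_val h.symm, nil_symm]))

theorem e_comm {x y z w : II l} (h1 : pl x ≠ pl y) (h2 : pl z ≠ pl w) (hxz : x.swap ≠ z) (hxw : x.swap ≠ w)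
    (hyz : y.swap ≠ z) (hyw : y.swap ≠ w) (t u : F) : Commute (K.e x y t) (K.e z w u) :=
  Commute.prod (K.X_comm x y z w h1 h2 hxz hxw hyz hyw t u) (Units.ext (by
    show (S x y t).1 * (S z w u).1 = (S z w u).1 * (S x y t).1
    rw [S_val h1, S_val h2, add_mul, mul_add, mul_add, add_mul, mul_add, mul_add, nil_mul hyz hyw hxz hxw,
      nil_mul (fun e => hxw (by rw [← e, Sum.swap_swap])) (fun e => hyw (by rw [← e, Sum.swap_swap]))
        (fun e => hxz (by rw [← e, Sum.swap_swap])) (fun e => hyz (by rw [← e, Sum.swap_swap]))]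
    simp; abel))

theorem e_comm_same {x y : II l} (h1 : pl x ≠ pl y) (t u : F) : Commute (K.e x y t) (K.e x y.swap u) :=
  Commute.prod (K.X_comm_same x y h1 t u) (Units.ext (by
    show (S x y t).1 * (S x y.swap u).1 = (S x y.swap u).1 * (S x y t).1
    obtain ⟨a, b⟩ := pl_ne_iff.1 h1
    have c : x.swap ≠ y := fun e => b (by rw [← e, Sum.swap_swap])
    have d : x.swap ≠ y.swap := fun e => a (Sum.swap_leftInverse.injective e)
    rw [S_val h1, S_val (by rw [pl_swap]; exact h1), add_mul, mul_add, mul_add, add_mul, mul_add, mul_add]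
    simp only [nil, Matrix.sub_mul, Matrix.mul_sub, Sum.swap_swap, Matrix.single_mul_single_of_ne _ _ _ _ b.symm,
      Matrix.single_mul_single_of_ne _ _ _ _ (swap_ne x), Matrix.single_mul_single_of_ne _ _ _ _ d,
      Matrix.single_mul_single_of_ne _ _ _ _ a.symm, Matrix.single_mul_single_of_ne _ _ _ _ c,
      Matrix.single_mul_single_same, one_mul, mul_one, mul_comm u t]
    abel))

theorem e_comm3 {x y z : II l} (h1 : pl x ≠ pl y) (h2 : pl y ≠ pl z) (h3 : pl x ≠ pl z) (t u : F) :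
    K.e x y t * K.e y.swap z u = K.e x z (t * u) * K.e y.swap z u * K.e x y t :=
  Prod.ext (K.X_comm3 x y z h1 h2 h3 t u) (Units.ext (by
    show (S x y t).1 * (S y.swap z u).1 = (S x z (t * u)).1 * (S y.swap z u).1 * (S x y t).1
    obtain ⟨a1, b1⟩ := pl_ne_iff.1 h1
    obtain ⟨a2, b2⟩ := pl_ne_iff.1 h2
    obtain ⟨a3, b3⟩ := pl_ne_iff.1 h3
    have c1 : x.swap ≠ y := fun e => b1 (by rw [← e, Sum.swap_swap])
    have c2 : y.swap ≠ z := fun e => b2 (by rw [← e, Sum.swap_swap])
    have c3 : x.swap ≠ z := fun e => b3 (by rw [← e, Sum.swap_swap])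
    have d1 : x.swap ≠ y.swap := fun e => a1 (Sum.swap_leftInverse.injective e)
    have d2 : z.swap ≠ y.swap := fun e => a2 (Sum.swap_leftInverse.injective e).symm
    have h32 : nil x z (t * u) * nil y.swap z u = 0 := nil_mul d2 (swap_ne z) d1 c3 _ _
    have h31 : nil x z (t * u) * nil x y t = 0 := nil_mul b3.symm
      (fun e => b2 e.symm) (swap_ne x) c1 _ _
    have h12 : nil x y t * nil y.swap z u = Matrix.single x z.swap (t * u) := by
      simp [nil, Matrix.sub_mul, Matrix.mul_sub, Sum.swap_swap, d1, c2, c3]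
    have h21 : nil y.swap z u * nil x y t = Matrix.single z x.swap (t * u) := by
      simp [nil, Matrix.sub_mul, Matrix.mul_sub, Sum.swap_swap, b3.symm, b2.symm,
        Ne.symm a1, mul_comm u t]
    rw [S_val h1, S_val (by rw [pl_swap]; exact h2), S_val h3]
    rw [show (1 + nil x z (t * u)) * (1 + nil y.swap z u) * (1 + nil x y t) =
      1 + nil x z (t * u) + nil y.swap z u + nil x y t + nil x z (t * u) * nil y.swap z u +
        nil x z (t * u) * nil x y t + nil y.swap z u * nil x y t +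
          nil x z (t * u) * nil y.swap z u * nil x y t by noncomm_ring]
    rw [h32, h31, h21, add_mul, mul_add, mul_add, h12, zero_mul]
    simp only [nil, one_mul, mul_one, add_zero]
    abel))

/-- A monomial element. -/
structure Mon (γ : Amb F G l) (π : Equiv.Perm (II l)) (k : II l → F) : Prop where
  comm_swap : ∀ z, π z.swap = (π z).swap
  kk : ∀ z, k z * k z.swap = 1
  mat : ∀ z, γ.2.1 *ᵥ Pi.single z 1 = Pi.single (π z) (k z)
  conjG : ∀ z w, pl z ≠ pl w → ∀ t, γ.1 * K.X z w t * γ.1⁻¹ = K.X (π z) (π w) (k z * k w * t)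

variable {K}

theorem Mon.k_ne {γ : Amb F G l} {π : Equiv.Perm (II l)} {k : II l → F} (h : K.Mon γ π k) (z : II l) : k z ≠ 0 :=
  left_ne_zero_of_mul_eq_one (h.kk z)

theorem Mon.pl_ne {γ : Amb F G l} {π : Equiv.Perm (II l)} {k : II l → F} (h : K.Mon γ π k) {z w : II l}
    (hzw : pl z ≠ pl w) : pl (π z) ≠ pl (π w) := by
  rw [pl_ne_iff] at hzw ⊢
  exact ⟨π.injective.ne hzw.1, by rw [← h.comm_swap]; exact π.injective.ne hzw.2⟩

theorem Mon.mat_single {γ : Amb F G l} {π : Equiv.Perm (II l)} {k : II l → F} (h : K.Mon γ π k) (z : II l) (c : F) :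
    γ.2.1 *ᵥ Pi.single z c = Pi.single (π z) (c * k z) := by
  rw [show (Pi.single z c : II l → F) = c • Pi.single z 1 by rw [← Pi.single_smul, smul_eq_mul, mul_one],
    mulVec_smul, h.mat, ← Pi.single_smul, smul_eq_mul]

theorem Mon.conj {γ : Amb F G l} {π : Equiv.Perm (II l)} {k : II l → F} (h : K.Mon γ π k) {z w : II l}
    (hzw : pl z ≠ pl w) (t : F) : γ * K.e z w t * γ⁻¹ = K.e (π z) (π w) (k z * k w * t) := by
  refine Prod.ext (h.conjG z w hzw t) ?_
  show γ.2 * S z w t * γ.2⁻¹ = S (π z) (π w) (k z * k w * t)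
  rw [mul_inv_eq_iff_eq_mul]
  refine PlusGen.ext_single fun v => ?_
  rw [Units.val_mul, Units.val_mul, ← mulVec_mulVec, ← mulVec_mulVec, S_single hzw, mulVec_sub, mulVec_add, h.mat,
    S_single (h.pl_ne hzw), ← h.comm_swap, ← h.comm_swap]
  simp only [π.injective.eq_iff, apply_ite (fun a => γ.2.1 *ᵥ a), h.mat_single, mulVec_zero]
  congr 1
  · congr 1
    by_cases hv : w.swap = v
    · subst hv; rw [if_pos rfl, if_pos rfl]; congr 1; linear_combination (-(k z * t)) * h.kk w
    · rw [if_neg hv, if_neg hv]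
  · by_cases hv : z.swap = v
    · subst hv; rw [if_pos rfl, if_pos rfl]; congr 1; linear_combination (-(k w * t)) * h.kk z
    · rw [if_neg hv, if_neg hv]

theorem Mon.mul {a b : Amb F G l} {π ρ : Equiv.Perm (II l)} {j k : II l → F} (ha : K.Mon a π j) (hb : K.Mon b ρ k) :
    K.Mon (a * b) (π * ρ) fun z => k z * j (ρ z) where
  comm_swap z := by simp [hb.comm_swap, ha.comm_swap]
  kk z := by rw [hb.comm_swap, mul_mul_mul_comm, hb.kk, ha.kk, one_mul]
  mat z := by rw [Prod.snd_mul, Units.val_mul, ← mulVec_mulVec, hb.mat, ha.mat_single]; rfl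
  conjG z w hzw t := by
    rw [Prod.fst_mul, show a.1 * b.1 * K.X z w t * (a.1 * b.1)⁻¹ = a.1 * (b.1 * K.X z w t * b.1⁻¹) * a.1⁻¹ by group,
      hb.conjG z w hzw, ha.conjG _ _ (hb.pl_ne hzw)]
    congr 1
    ring

theorem Mon.one : K.Mon 1 1 fun _ => 1 where
  comm_swap z := rfl
  kk z := one_mul 1
  mat z := by rw [Prod.snd_one, Units.val_one, one_mulVec]; rfl
  conjG z w _ t := by simp

variable (K)

/-- The monomial element of a root. -/
noncomputable def M (p q : II l) (t : F) : Amb F G l := K.e p q (-t⁻¹) * K.e q.swap p.swap t * K.e p q (-t⁻¹)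

/-- Its permutation. -/
def refl (p q : II l) : Equiv.Perm (II l) := Equiv.swap p q.swap * Equiv.swap p.swap q

theorem refl_val {p q : II l} (h : pl p ≠ pl q) :
    refl p q p = q.swap ∧ refl p q q.swap = p ∧ refl p q p.swap = q ∧ refl p q q = p.swap ∧
      ∀ z, z ≠ p → z ≠ q.swap → z ≠ p.swap → z ≠ q → refl p q z = z := by
  obtain ⟨a, b⟩ := pl_ne_iff.1 h
  have c : p.swap ≠ q := fun e => b (by rw [← e, Sum.swap_swap])
  have d : p.swap ≠ q.swap := fun e => a (Sum.swap_leftInverse.injective e)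
  refine ⟨?_, ?_, ?_, ?_, fun z z1 z2 z3 z4 => ?_⟩ <;> simp only [refl, Equiv.Perm.coe_mul, Function.comp_apply]
  · rw [Equiv.swap_apply_of_ne_of_ne (swap_ne p).symm a, Equiv.swap_apply_left]
  · rw [Equiv.swap_apply_of_ne_of_ne d.symm (swap_ne q), Equiv.swap_apply_right]
  · rw [Equiv.swap_apply_left, Equiv.swap_apply_of_ne_of_ne a.symm (swap_ne q).symm]
  · rw [Equiv.swap_apply_right, Equiv.swap_apply_of_ne_of_ne (swap_ne p) d]
  · rw [Equiv.swap_apply_of_ne_of_ne z3 z4, Equiv.swap_apply_of_ne_of_ne z1 z2]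

/-- Its scalars. -/
def reflScal (p q : II l) (t : F) (z : II l) : F :=
  if z = p then t else if z = q.swap then -t⁻¹ else if z = p.swap then t⁻¹ else if z = q then -t else 1

theorem scal_val {p q : II l} (h : pl p ≠ pl q) (t : F) :
    reflScal p q t p = t ∧ reflScal p q t q.swap = -t⁻¹ ∧ reflScal p q t p.swap = t⁻¹ ∧ reflScal p q t q = -t := by
  obtain ⟨a, b⟩ := pl_ne_iff.1 h
  have c : p.swap ≠ q := fun e => b (by rw [← e, Sum.swap_swap])
  have d : p.swap ≠ q.swap := fun e => a (Sum.swap_leftInverse.injective e)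
  simp [reflScal, b.symm, a.symm, swap_ne p, d, (swap_ne q).symm, c.symm]

theorem M_mon {p q : II l} (h : pl p ≠ pl q) {t : F} (ht : t ≠ 0) :
    K.Mon (K.M p q t) (refl p q) (reflScal p q t) := by
  obtain ⟨a, b⟩ := pl_ne_iff.1 h
  have c : p.swap ≠ q := fun e => b (by rw [← e, Sum.swap_swap])
  have d : p.swap ≠ q.swap := fun e => a (Sum.swap_leftInverse.injective e)
  obtain ⟨r1, r2, r3, r4, r5⟩ := refl_val h
  obtain ⟨k1, k2, k3, k4⟩ := scal_val h t
  have h' : pl q.swap ≠ pl p.swap := by rw [pl_swap, pl_swap]; exact h.symm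
  have cases5 : ∀ z : II l, z = p ∨ z = q.swap ∨ z = p.swap ∨ z = q ∨
      (z ≠ p ∧ z ≠ q.swap ∧ z ≠ p.swap ∧ z ≠ q) := fun z => by tauto
  refine ⟨fun z => ?_, fun z => ?_, fun z => ?_, fun z w hzw u => ?_⟩
  · rcases cases5 z with rfl | rfl | rfl | rfl | ⟨z1, z2, z3, z4⟩
    · rw [r1, r3, Sum.swap_swap]
    · rw [Sum.swap_swap, r2, r4]
    · rw [Sum.swap_swap, r3, r1]
    · rw [r2, r4, Sum.swap_swap]
    · rw [r5 z z1 z2 z3 z4, r5 z.swap (fun e => z3 (by rw [← e, Sum.swap_swap]))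
        (fun e => z4 (Sum.swap_leftInverse.injective e)) (fun e => z1 (Sum.swap_leftInverse.injective e))
        (fun e => z2 (by rw [← e, Sum.swap_swap]))]
  · rcases cases5 z with rfl | rfl | rfl | rfl | ⟨z1, z2, z3, z4⟩
    · rw [k1, k3, mul_inv_cancel₀ ht]
    · rw [Sum.swap_swap, k2, k4, neg_mul_neg, inv_mul_cancel₀ ht]
    · rw [Sum.swap_swap, k3, k1, inv_mul_cancel₀ ht]
    · rw [k2, k4, neg_mul_neg, mul_inv_cancel₀ ht]
    · have z1' : z.swap ≠ p.swap := fun e => z1 (Sum.swap_leftInverse.injective e)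
      have z2' : z.swap ≠ q := fun e => z2 (by rw [← e, Sum.swap_swap])
      have z3' : z.swap ≠ p := fun e => z3 (by rw [← e, Sum.swap_swap])
      have z4' : z.swap ≠ q.swap := fun e => z4 (Sum.swap_leftInverse.injective e)
      simp [reflScal, z1, z2, z3, z4, z1', z2', z3', z4']
  · show ((S p q (-t⁻¹) * S q.swap p.swap t * S p q (-t⁻¹) : GL (II l) F)).1 *ᵥ _ = _
    have step : ∀ (v : II l) (cc : F), (S p q (-t⁻¹)).1 *ᵥ Pi.single v cc = Pi.single v cc +
        (if q.swap = v then Pi.single p (-t⁻¹ * cc) else 0) - (if p.swap = v then Pi.single q (-t⁻¹ * cc) else 0) :=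
      fun v cc => S_single h _ v cc
    have step' : ∀ (v : II l) (cc : F), (S q.swap p.swap t).1 *ᵥ Pi.single v cc = Pi.single v cc +
        (if p = v then Pi.single q.swap (t * cc) else 0) - (if q = v then Pi.single p.swap (t * cc) else 0) :=
      fun v cc => by rw [S_single h' _ v cc, Sum.swap_swap, Sum.swap_swap]
    rw [Units.val_mul, Units.val_mul, ← mulVec_mulVec, ← mulVec_mulVec]
    rcases cases5 z with rfl | rfl | rfl | rfl | ⟨z1, z2, z3, z4⟩
    · rw [r1, k1]
      simp [-Matrix.mulVec_mulVec, step, step', mulVec_add, mulVec_sub, b.symm, swap_ne z, a.symm, d, mul_inv_cancel₀ ht, ht,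
        Ne.symm a, a]
      try (funext r; simp [Pi.single_apply]; split_ifs <;> simp_all)
    · rw [r2, k2]
      simp [-Matrix.mulVec_mulVec, step, step', mulVec_add, mulVec_sub, b, b.symm, d, (swap_ne q).symm, swap_ne q, swap_ne p, a, a.symm, ht,
        mul_inv_cancel₀ ht]
      try (funext r; simp [Pi.single_apply]; split_ifs <;> simp_all)
    · rw [r3, k3]
      simp [-Matrix.mulVec_mulVec, step, step', mulVec_add, mulVec_sub, d, d.symm, c, c.symm, swap_ne p, (swap_ne p).symm, a.symm, a, ht,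
        (swap_ne q).symm, swap_ne q]
      try (funext r; simp [Pi.single_apply]; split_ifs <;> simp_all)
    · rw [r4, k4]
      simp [-Matrix.mulVec_mulVec, step, step', mulVec_add, mulVec_sub, d, d.symm, c, c.symm, swap_ne z, (swap_ne z).symm, a, ht]
      try (funext r; simp [Pi.single_apply]; split_ifs <;> simp_all)
    · rw [r5 z z1 z2 z3 z4]
      simp [-Matrix.mulVec_mulVec, step, step', reflScal, z1, z2, z3, z4, Ne.symm z1, Ne.symm z2, Ne.symm z3, Ne.symm z4]
  · obtain ⟨K', s, hK, hs⟩ := K.exists_straight [p, q.swap] (by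
      intro x hx hy
      simp only [List.mem_cons, List.not_mem_nil, or_false] at hx hy
      exact Fork.no_opp h hx hy)
    have fp : flipSet s p = Sum.inl (pl p) := hs p (by simp)
    have fq' : flipSet s q.swap = Sum.inl (pl q) := by rw [hs q.swap (by simp), pl_swap]
    have fq : flipSet s q = Sum.inr (pl q) := Fork.flip_inr (hs q.swap (by simp))
    have fp' : flipSet s p.swap = Sum.inr (pl p) := by rw [flipSet_swap, fp]; rfl
    obtain ⟨g, hg⟩ : ∃ g : Matrix.SpecialLinearGroup (Fin 2) F, g.1 = !![0, -t⁻¹; t, 0] :=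
      ⟨⟨_, by rw [det_fin_two_of]; simp [ht]⟩, rfl⟩
    have hge : g = ue (-t⁻¹) * le' t * ue (-t⁻¹) := by
      refine Subtype.ext ?_
      simp only [Matrix.SpecialLinearGroup.coe_mul, ue_val, le'_val, hg, mul_fin_two]
      ext i j; fin_cases i <;> fin_cases j <;> simp [ht]
    have hM : (K.M p q t).1 = K'.Φ (emb2 h g) := by
      show K.X p q (-t⁻¹) * K.X q.swap p.swap t * K.X p q (-t⁻¹) = _
      rw [← hK p q h, ← hK _ _ h', fp, fq, fq', fp', hge, map_mul (emb2 h), map_mul (emb2 h), emb2_ue h, emb2_le' h, map_mul, map_mul]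
      rfl
    have hm := emb2_anti h hg
    have hf : ∀ v : II l, mapI (Equiv.swap (pl p) (pl q)) (flipSet s v) = flipSet s (refl p q v) ∧
        sc (fun i => if i = pl p then t else if i = pl q then -t⁻¹ else 1) (flipSet s v) = reflScal p q t v := by
      intro v
      rcases cases5 v with rfl | rfl | rfl | rfl | ⟨z1, z2, z3, z4⟩
      · rw [r1, k1, fp, fq']; simp [mapI, sc]
      · rw [r2, k2, fp, fq']; simp [mapI, sc, h.symm]
      · rw [r3, k3, fp', fq]; simp [mapI, sc]
      · rw [r4, k4, fp', fq]; simp [mapI, sc, h.symm, ht, inv_neg]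
      · have n1 : pl v ≠ pl p := pl_ne_iff.2 ⟨z1, z3⟩
        have n2 : pl v ≠ pl q := pl_ne_iff.2 ⟨z4, z2⟩
        have hsv := pl_flipSet s v
        rw [r5 v z1 z2 z3 z4]
        rcases hv : flipSet s v with i | i <;> rw [hv] at hsv <;> simp only [pl, Sum.elim_inl, Sum.elim_inr, id] at hsv <;>
          simp [mapI, sc, reflScal, z1, z2, z3, z4, hsv, Equiv.swap_apply_of_ne_of_ne n1 n2] <;>
          simp_all [pl, Equiv.swap_apply_of_ne_of_ne]
    have hne : pl (refl p q z) ≠ pl (refl p q w) := by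
      have := hf z
      have := hf w
      rw [← pl_flipSet s (refl p q z), ← pl_flipSet s (refl p q w), ← (hf z).1, ← (hf w).1, pl_mapI, pl_mapI,
        pl_flipSet, pl_flipSet]
      exact (Equiv.swap _ _).injective.ne hzw
    rw [hM, ← hK z w hzw, K'.transport hm _ _ (by rw [pl_flipSet, pl_flipSet]; exact hzw), (hf z).1, (hf w).1,
      (hf z).2, (hf w).2, hK _ _ hne]

theorem M_inv {p q : II l} (h : pl p ≠ pl q) (t : F) : (K.M p q t)⁻¹ = K.M p q (-t) := by
  have h' : pl q.swap ≠ pl p.swap := by rw [pl_swap, pl_swap]; exact h.symm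
  simp only [M, _root_.mul_inv_rev, K.e_inv h, K.e_inv h', inv_neg, _root_.neg_neg, mul_assoc]

end Fork

end Cfsg.Agent.Lie.CTA
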