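import Cfsg.Agent.Lib.Lie.CTA.DN.Bruhat
import Cfsg.Agent.Lib.Classical.OrthPSimple

/-!
Curtis–Tits recognition of type `D`.
-/

set_option autoImplicit false
set_option linter.unusedSectionVars false
set_option linter.unusedSimpArgs false
set_option linter.style.haveILetI false

namespace Cfsg.Agent.Lie.CTA

open Matrix
open Cfsg.Agent.Lie.PlusGen (pl pl_swap)

variable {F : Type*} [Field F] [Fintype F] {G : Type*} [Group G] {l : ℕ}

local notation "SL2" => Matrix.SpecialLinearGroup (Fin 2) F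
local notation "SL3" => Matrix.SpecialLinearGroup (Fin 3) F

namespace Fork

variable (K : Fork F G l)

theorem hasAll {m : ℕ} : PlusGen.HasAll F m := fun a b h1 h2 c =>
  ⟨S a b c, fun v => S_mulVec (pl_ne_iff.2 ⟨h1, h2⟩) c v⟩

/-- A torus element. -/
noncomputable def tor (p q : II l) (t : F) : Amb F G l := K.M p q t * K.M p q (-1)

theorem tor_val {p q : II l} (h : pl p ≠ pl q) {t : F} (ht : t ≠ 0) :
    (∀ z, pl z ≠ pl p → pl z ≠ pl q → (K.tor p q t).2.1 *ᵥ Pi.single z 1 = Pi.single z 1) ∧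
    (K.tor p q t).2.1 *ᵥ Pi.single p 1 = Pi.single p t⁻¹ ∧
    (K.tor p q t).2.1 *ᵥ Pi.single p.swap 1 = Pi.single p.swap t ∧
    (K.tor p q t).2.1 *ᵥ Pi.single q 1 = Pi.single q t⁻¹ ∧
    (K.tor p q t).2.1 *ᵥ Pi.single q.swap 1 = Pi.single q.swap t := by
  have hm : K.Mon (K.tor p q t) _ _ := (K.M_mon h ht).mul (K.M_mon h (neg_ne_zero.2 one_ne_zero))
  obtain ⟨r1, r2, r3, r4, r5⟩ := refl_val h
  obtain ⟨k1, k2, k3, k4⟩ := scal_val h t
  obtain ⟨j1, j2, j3, j4⟩ := scal_val h (-1 : F)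
  refine ⟨fun z z1 z2 => ?_, ?_, ?_, ?_, ?_⟩
  · rw [hm.mat]
    obtain ⟨a1, a2⟩ := pl_ne_iff.1 z1
    obtain ⟨a3, a4⟩ := pl_ne_iff.1 z2
    rw [Equiv.Perm.coe_mul, Function.comp_apply, r5 z a1 a4 a2 a3, r5 z a1 a4 a2 a3]
    simp [reflScal, a1, a2, a3, a4]
  · rw [hm.mat, Equiv.Perm.coe_mul, Function.comp_apply, r1, r2, j1, k2]; simp
  · rw [hm.mat, Equiv.Perm.coe_mul, Function.comp_apply, r3, r4, j3, k4]; simp
  · rw [hm.mat, Equiv.Perm.coe_mul, Function.comp_apply, r4, r3, j4, k3]; simp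
  · rw [hm.mat, Equiv.Perm.coe_mul, Function.comp_apply, r2, r1, j2, k1]; simp

theorem M_mem_Gam {p q : II l} (h : pl p ≠ pl q) (t : F) : K.M p q t ∈ K.Gam := by
  have h' : pl q.swap ≠ pl p.swap := by rw [pl_swap, pl_swap]; exact h.symm
  exact mul_mem (mul_mem (Subgroup.subset_closure ⟨p, q, _, h, rfl⟩) (Subgroup.subset_closure ⟨_, _, _, h', rfl⟩))
    (Subgroup.subset_closure ⟨p, q, _, h, rfl⟩)

theorem gam_map : K.Gam.map (MonoidHom.snd G (GL (II l) F)) = Subgroup.closure (PlusGen.gens F (l + 2)) := by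
  rw [Gam, MonoidHom.map_closure]
  congr 1
  ext g
  constructor
  · rintro ⟨_, ⟨z, w, t, h, rfl⟩, rfl⟩
    exact ⟨z, w, t, (pl_ne_iff.1 h).1, (pl_ne_iff.1 h).2, fun v => S_mulVec h t v⟩
  · rintro ⟨a, b, c, h1, h2, hg⟩
    refine ⟨K.e a b c, ⟨a, b, c, pl_ne_iff.2 ⟨h1, h2⟩, rfl⟩, ?_⟩
    show S a b c = g
    exact PlusGen.ext_single fun v => by rw [hg, S_mulVec (pl_ne_iff.2 ⟨h1, h2⟩)]

include K in
theorem derived :
    ⁅Cfsg.isometryGroup F (Cfsg.quadFormPlus (l + 2) F), Cfsg.isometryGroup F (Cfsg.quadFormPlus (l + 2) F)⁆ =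
      Subgroup.closure (PlusGen.gens F (l + 2)) := by
  refine PlusGen.derived_eq hasAll (by have := K.two; omega) fun c hc => ?_
  have h1 : pl (Sum.inl (ia l) : II l) ≠ pl (Sum.inr (ib l) : II l) := iab l
  have h2 : pl (Sum.inl (ia l) : II l) ≠ pl (Sum.inl (ib l) : II l) := iab l
  obtain ⟨A, hA⟩ : ∃ A, A = K.tor (Sum.inl (ia l)) (Sum.inr (ib l)) c := ⟨_, rfl⟩
  obtain ⟨B, hB⟩ : ∃ B, B = K.tor (Sum.inl (ia l)) (Sum.inl (ib l)) c⁻¹ := ⟨_, rfl⟩
  obtain ⟨a0, a1, a2, a3, a4⟩ := K.tor_val h1 hc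
  obtain ⟨b0, b1, b2, b3, b4⟩ := K.tor_val h2 (inv_ne_zero hc)
  rw [← hA] at a0 a1 a2 a3 a4
  rw [← hB] at b0 b1 b2 b3 b4
  rw [inv_inv] at b1 b3
  simp only [Sum.swap_inl, Sum.swap_inr] at a2 a4 b2 b4
  have hs : ∀ (g : GL (II l) F) (z : II l) (d : F), g.1 *ᵥ Pi.single z d = d • (g.1 *ᵥ Pi.single z 1) := fun g z d => by
    rw [← mulVec_smul, ← Pi.single_smul, smul_eq_mul, mul_one]
  refine ⟨(A * B).2, ?_, fun z hz => ?_, ?_⟩
  · rw [← K.gam_map, hA, hB]
    exact ⟨_, mul_mem (mul_mem (K.M_mem_Gam h1 _) (K.M_mem_Gam h1 _))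
      (mul_mem (K.M_mem_Gam h2 _) (K.M_mem_Gam h2 _)), rfl⟩
  · have hzb : pl z ≠ ib l := fun e => by rw [e] at hz; simp [ib] at hz
    rw [Prod.snd_mul, Units.val_mul, ← mulVec_mulVec]
    by_cases hza : pl z = ia l
    · rcases z with i | i <;> simp only [pl, Sum.elim_inl, Sum.elim_inr, id] at hza <;> subst hza
      · rw [b1, hs, a1, ← Pi.single_smul, smul_eq_mul, mul_inv_cancel₀ hc]
      · rw [b2, hs, a2, ← Pi.single_smul, smul_eq_mul, inv_mul_cancel₀ hc]
    · rw [b0 z hza hzb, a0 z hza hzb]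
  · have e : (⟨l + 2 - 1, by omega⟩ : Fin (l + 2)) = ib l := Fin.ext rfl
    rw [e, Prod.snd_mul, Units.val_mul, ← mulVec_mulVec, b3, hs, a4, ← Pi.single_smul, smul_eq_mul, sq]

include K in
/-- The group of a fork generated by its root elements. -/
theorem recognition [Finite G] [IsSimpleGroup G] (hnc : ∃ a b : G, a * b ≠ b * a)
    (hgen : Subgroup.closure {g | ∃ z w t, pl z ≠ pl w ∧ g = K.X z w t} = ⊤) :
    Nonempty (G ≃* Cfsg.POmega F (Cfsg.quadFormPlus (l + 2) F)) := by
  have hcen : Subgroup.center G = ⊥ :=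
    (IsSimpleGroup.eq_bot_or_eq_top_of_normal (Subgroup.center G) inferInstance).resolve_right fun h => by
      obtain ⟨a, b, hab⟩ := hnc
      exact hab (Subgroup.mem_center_iff.1 (show b ∈ Subgroup.center G by rw [h]; trivial) a)
  have hc : ∀ x : G, (∀ z w t, pl z ≠ pl w → Commute x (K.X z w t)) → x = 1 := fun x hx => by
    have : x ∈ Subgroup.center G := Subgroup.mem_center_iff.2 fun y => by
      have hy : y ∈ Subgroup.closure {g | ∃ z w t, pl z ≠ pl w ∧ g = K.X z w t} := by rw [hgen]; trivial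
      induction hy using Subgroup.closure_induction with
      | mem g hg => obtain ⟨z, w, t, h, rfl⟩ := hg; exact (hx z w t h).symm.eq
      | one => simp
      | mul a b _ _ ha hb => rw [mul_assoc, hb, ← mul_assoc, ha, mul_assoc]
      | inv a _ ha => exact (Commute.inv_left (show Commute a x from ha)).eq
    rwa [hcen, Subgroup.mem_bot] at this
  let π₂ : ↥K.Gam →* GL (II l) F := (MonoidHom.snd _ _).comp K.Gam.subtype
  have hπ : Function.Injective π₂ := by
    rw [injective_iff_map_eq_one]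
    exact fun g hg => Subtype.ext (K.Gam_inj hc g.2 hg)
  let Q := Cfsg.quadFormPlus (l + 2) F
  have hrange : (Cfsg.Omega F Q).map (Cfsg.isometryGroup F Q).subtype = π₂.range := by
    rw [Cfsg.Omega, commutator_def, Subgroup.map_commutator, ← MonoidHom.range_eq_map, Subgroup.range_subtype,
      K.derived, ← K.gam_map, MonoidHom.range_comp, Subgroup.range_subtype]
  let e : ↥(Cfsg.Omega F Q) ≃* ↥K.Gam :=
    (((Cfsg.Omega F Q).equivMapOfInjective _ (Cfsg.isometryGroup F Q).subtype_injective).trans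
      (MulEquiv.subgroupCongr hrange)).trans (MonoidHom.ofInjective hπ).symm
  let f : ↥(Cfsg.Omega F Q) →* G := ((MonoidHom.fst _ _).comp K.Gam.subtype).comp e.toMonoidHom
  have hf : Function.Surjective f := by
    rw [← MonoidHom.range_eq_top, eq_top_iff, ← hgen, Subgroup.closure_le]
    rintro _ ⟨z, w, t, h, rfl⟩
    refine ⟨e.symm ⟨K.e z w t, Subgroup.subset_closure ⟨z, w, t, h, rfl⟩⟩, ?_⟩
    show ((e (e.symm _)).1).1 = _
    rw [e.apply_symm_apply]; rfl
  have hker : Subgroup.center ↥(Cfsg.Omega F Q) ≤ f.ker := by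
    intro c hc'
    rw [MonoidHom.mem_ker]
    have hmem : f c ∈ Subgroup.center G := Subgroup.mem_center_iff.2 fun y => by
      obtain ⟨x, rfl⟩ := hf y
      rw [← map_mul, ← map_mul, Subgroup.mem_center_iff.1 hc' x]
    rwa [hcen, Subgroup.mem_bot] at hmem
  haveI hsimp : IsSimpleGroup (Cfsg.POmega F Q) := by
    show IsSimpleGroup (Cfsg.POmega F (Cfsg.quadFormPlus (l + 2) F))
    rw [← Cfsg.Agent.Classical.OOmega.coe_plus (l + 2)]
    exact Cfsg.Agent.Classical.OOmega.simple_standard Cfsg.Agent.Classical.OOmega.pnd_empty (by have := K.two; omega)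
  let f' : Cfsg.POmega F Q →* G := QuotientGroup.lift _ f hker
  have fs : Function.Surjective f' := fun y => by
    obtain ⟨x, rfl⟩ := hf y
    exact ⟨QuotientGroup.mk x, rfl⟩
  have fi : Function.Injective f' := by
    rw [← MonoidHom.ker_eq_bot_iff]
    rcases IsSimpleGroup.eq_bot_or_eq_top_of_normal f'.ker inferInstance with h | h
    · exact h
    · exfalso
      obtain ⟨a, b, hab⟩ := hnc
      obtain ⟨x, rfl⟩ := fs a
      have : f' x = 1 := MonoidHom.mem_ker.1 (by rw [h]; trivial)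
      exact hab (by rw [this, one_mul, mul_one])
  exact ⟨(MulEquiv.ofBijective f' ⟨fi, fs⟩).symm⟩

end Fork

theorem step_ne {m : ℕ} (i : Fin m) : i.castSucc ≠ i.succ := Fin.castSucc_lt_succ.ne

/-- The index of the node on edge `i` of the second branch. -/
def alt (i : Fin (l + 1)) : Fin (l + 2) := if i.val = l then ib l else i.castSucc

/-- Type `D`, from coherent parametrisations. -/
theorem dn_simple [Finite G] [IsSimpleGroup G] (hl : 2 ≤ l) (φ : Fin (l + 2) → (SL2 →* G))
    (hinj : ∀ i, Function.Injective (φ i))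
    (hedge : ∀ i j : Fin (l + 2), (i.val + 1 = j.val ∧ j.val ≤ l) ∨ (i.val + 1 = l ∧ j.val = l + 1) →
      ∃ ψ : SL3 →* G, ψ.comp b12 = φ i ∧ ψ.comp b23 = φ j)
    (hcomm : ∀ i j : Fin (l + 2), (i.val + 1 < j.val ∧ j.val ≤ l) ∨ (j.val = l + 1 ∧ i.val + 1 ≠ l ∧ i.val ≤ l) →
      ∀ g h, Commute (φ i g) (φ j h))
    (hgen : ⨆ i, (φ i).range = ⊤) :
    Nonempty (G ≃* Cfsg.POmega F (Cfsg.quadFormPlus (l + 2) F)) := by
  obtain ⟨Φ, hΦ⟩ := an_hom (n := l + 1) (fun i => φ i.castSucc)
    (fun i j h => hedge _ _ (Or.inl ⟨by simpa using h, by simp [Fin.is_le]⟩))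
    (fun i j h => hcomm _ _ (Or.inl ⟨by simpa using h, by simp [Fin.is_le]⟩)) (l + 1) (by omega) le_rfl
  obtain ⟨Φ', hΦ'⟩ := an_hom (n := l + 1) (fun i => φ (alt i))
    (fun i j h => hedge _ _ (by
      have := j.isLt
      unfold alt
      by_cases hj : j.val = l
      · rw [if_pos hj, if_neg (by omega)]; right; simp only [Fin.val_castSucc, Fin.val_last, and_true, true_and]; omega
      · rw [if_neg hj, if_neg (by omega)]; left; simp only [Fin.val_castSucc]; omega))
    (fun i j h => hcomm _ _ (by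
      have := j.isLt
      unfold alt
      by_cases hj : j.val = l
      · rw [if_pos hj, if_neg (by omega)]; right; simp only [Fin.val_castSucc, Fin.val_last, and_true, true_and]; omega
      · rw [if_neg hj, if_neg (by omega)]; left; simp only [Fin.val_castSucc]; omega)) (l + 1) (by omega) le_rfl
  have nΦ : ∀ i : Fin (l + 1), Φ.comp (emb2 (step_ne i)) = φ i.castSucc := fun i => hΦ i i.isLt
  have nΦ' : ∀ i : Fin (l + 1), Φ'.comp (emb2 (step_ne i)) = φ (alt i) := fun i => hΦ' i i.isLt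
  let K : Fork F G l :=
    { two := hl
      Φ := Φ
      Φ' := Φ'
      agree := by
        intro p q hp hq t
        refine agree_tv Φ Φ' (l + 1) (fun p q hp hq hpq t => ?_) p q ?_ ?_ t
        · rcases hpq with h | h
          · have ep : p = (⟨q.val, hq⟩ : Fin (l + 1)).succ := Fin.ext h
            have eq : q = (⟨q.val, hq⟩ : Fin (l + 1)).castSucc := Fin.ext rfl
            have e := (DFunLike.congr_fun (nΦ ⟨q.val, hq⟩) (le' t)).trans
              (show φ _ (le' t) = φ (alt ⟨q.val, hq⟩) (le' t) by rw [alt, if_neg (by simp only; omega)])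
            rw [← DFunLike.congr_fun (nΦ' ⟨q.val, hq⟩) (le' t), MonoidHom.comp_apply, MonoidHom.comp_apply,
              emb2_le' (step_ne ⟨q.val, hq⟩), ← eq, ← ep] at e
            exact e
          · have eq : q = (⟨p.val, hp⟩ : Fin (l + 1)).succ := Fin.ext h
            have ep : p = (⟨p.val, hp⟩ : Fin (l + 1)).castSucc := Fin.ext rfl
            have e := (DFunLike.congr_fun (nΦ ⟨p.val, hp⟩) (ue t)).trans
              (show φ _ (ue t) = φ (alt ⟨p.val, hp⟩) (ue t) by rw [alt, if_neg (by simp only; omega)])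
            rw [← DFunLike.congr_fun (nΦ' ⟨p.val, hp⟩) (ue t), MonoidHom.comp_apply, MonoidHom.comp_apply,
              emb2_ue (step_ne ⟨p.val, hp⟩), ← eq, ← ep] at e
            exact e
        · have := Fin.val_ne_of_ne hp; have := p.isLt; simp [ib] at *; omega
        · have := Fin.val_ne_of_ne hq; have := q.isLt; simp [ib] at *; omega
      comm := fun g h => by
        have e1 : Φ (emb2 (iab l) g) = φ (ia l) g := by
          have := DFunLike.congr_fun (nΦ (Fin.last l)) g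
          exact this
        have e2 : Φ' (emb2 (iab l) h) = φ (ib l) h := by
          have := DFunLike.congr_fun (nΦ' (Fin.last l)) h
          rw [alt, if_pos (Fin.val_last l)] at this
          exact this
        rw [e1, e2]
        exact hcomm _ _ (Or.inr ⟨by simp, by simp, by simp⟩) g h }
  have hX : ∀ i : Fin (l + 2), ∀ g : SL2,
      φ i g ∈ Subgroup.closure {g | ∃ z w t, pl z ≠ pl w ∧ g = K.X z w t} := by
    intro i g
    obtain ⟨z, w, hzw, h1, h2⟩ : ∃ z w : II l, pl z ≠ pl w ∧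
        (∀ t, φ i (ue t) = K.X z w t) ∧ ∀ t, ∃ u, φ i (le' t) = K.X w.swap z.swap u := by
      induction i using Fin.lastCases with
      | last =>
        refine ⟨Sum.inl (ia l), Sum.inl (ib l), iab l, fun t => ?_, fun t => ⟨t, ?_⟩⟩
        · have := DFunLike.congr_fun (nΦ' (Fin.last l)) (ue t)
          rw [alt, if_pos (Fin.val_last l), MonoidHom.comp_apply, emb2_ue (step_ne (Fin.last l))] at this
          rw [← this]
          exact (K.n2_last (iab l) t).symm
        · have := DFunLike.congr_fun (nΦ' (Fin.last l)) (le' t)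
          rw [alt, if_pos (Fin.val_last l), MonoidHom.comp_apply, emb2_le' (step_ne (Fin.last l))] at this
          rw [← this, show (Sum.inl (ib l) : II l).swap = Sum.inr (ib l) from rfl,
            show (Sum.inl (ia l) : II l).swap = Sum.inr (ia l) from rfl,
            ← K.swap_X (Sum.inr (ib l)) (Sum.inr (ia l)) (iab l).symm,
            show flipAt (ib l) (Sum.inr (ib l) : II l) = Sum.inl (ib l) from if_pos rfl,
            show flipAt (ib l) (Sum.inr (ia l) : II l) = Sum.inr (ia l) from if_neg (iab l)]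
          rfl
      | cast i =>
        refine ⟨Sum.inl i.castSucc, Sum.inr i.succ, step_ne i, fun t => ?_, fun t => ⟨t, ?_⟩⟩
        · rw [← DFunLike.congr_fun (nΦ i) (ue t), MonoidHom.comp_apply, emb2_ue (step_ne i)]; rfl
        · rw [← DFunLike.congr_fun (nΦ i) (le' t), MonoidHom.comp_apply, emb2_le' (step_ne i)]; rfl
    refine sl2_induction (P := fun g => φ i g ∈ _) (fun t => ?_) (fun t => ?_) ?_ ?_ ?_ g
    · exact Subgroup.subset_closure ⟨z, w, t, hzw, h1 t⟩
    · obtain ⟨u, hu⟩ := h2 t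
      exact Subgroup.subset_closure ⟨_, _, u, by rw [pl_swap, pl_swap]; exact hzw.symm, hu⟩
    · rw [map_one]; exact one_mem _
    · intro a b ha hb; rw [map_mul]; exact mul_mem ha hb
    · intro a ha; rw [map_inv]; exact inv_mem ha
  refine K.recognition ⟨φ 0 (ue 1), φ 0 (le' 1), fun h => ?_⟩ ?_
  · rw [← map_mul, ← map_mul] at h
    have h2 := congrFun (congrFun (congrArg Subtype.val (hinj _ h)) 0) 0
    rw [Matrix.SpecialLinearGroup.coe_mul, Matrix.SpecialLinearGroup.coe_mul, ue_val, le'_val, mul_fin_two,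
      mul_fin_two] at h2
    simp at h2
  · rw [eq_top_iff, ← hgen, iSup_le_iff]
    rintro i _ ⟨g, rfl⟩
    exact hX i g

end Cfsg.Agent.Lie.CTA
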