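import Cfsg.Agent.Lib.Lie.CTA.AN

/-!
Monomial elements of `SL_k`, the stabiliser of two coordinate vectors, and homomorphisms agreeing on blocks.
-/

set_option autoImplicit false
set_option linter.unusedSectionVars false
set_option linter.style.haveILetI false

namespace Cfsg.Agent.Lie.CTA

open Matrix

variable {F : Type*} [Field F] [Fintype F] {k : ℕ}

local notation "SL2" => Matrix.SpecialLinearGroup (Fin 2) F

/-- A monomial element. -/
def IsMono (h : Matrix.SpecialLinearGroup (Fin k) F) (π : Equiv.Perm (Fin k)) (d : Fin k → F) : Prop :=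
  ∀ i, h.1 *ᵥ Pi.single i 1 = Pi.single (π i) (d i)

theorem IsMono.single {h : Matrix.SpecialLinearGroup (Fin k) F} {π : Equiv.Perm (Fin k)} {d : Fin k → F}
    (hh : IsMono h π d) (i : Fin k) (x : F) : h.1 *ᵥ Pi.single i x = Pi.single (π i) (x * d i) := by
  rw [show (Pi.single i x : Fin k → F) = x • Pi.single i 1 by rw [← Pi.single_smul, smul_eq_mul, mul_one],
    mulVec_smul, hh, ← Pi.single_smul, smul_eq_mul]

theorem IsMono.ne_zero {h : Matrix.SpecialLinearGroup (Fin k) F} {π : Equiv.Perm (Fin k)} {d : Fin k → F}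
    (hh : IsMono h π d) (i : Fin k) : d i ≠ 0 := fun h0 => by
  have := congrArg ((h⁻¹).1 *ᵥ ·) (hh i)
  simp only [mulVec_mulVec, ← Matrix.SpecialLinearGroup.coe_mul, inv_mul_cancel, h0, Pi.single_zero, mulVec_zero,
    Matrix.SpecialLinearGroup.coe_one, one_mulVec] at this
  exact one_ne_zero (Pi.single_eq_zero_iff.1 this)

theorem IsMono.apply {h : Matrix.SpecialLinearGroup (Fin k) F} {π : Equiv.Perm (Fin k)} {d : Fin k → F}
    (hh : IsMono h π d) (i j : Fin k) : h.1 i j = if i = π j then d j else 0 := by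
  have := congrFun (hh j) i
  rwa [mulVec_single_one, Matrix.col_apply, Pi.single_apply] at this

theorem IsMono.conj_tv {h : Matrix.SpecialLinearGroup (Fin k) F} {π : Equiv.Perm (Fin k)} {d : Fin k → F}
    (hh : IsMono h π d) {i j : Fin k} (hij : i ≠ j) (t : F) :
    h * tv' i j t * h⁻¹ = tv' (π i) (π j) (d i * (d j)⁻¹ * t) := by
  rw [mul_inv_eq_iff_eq_mul]
  refine Subtype.ext (Matrix.ext_of_mulVec_single fun c => ?_)
  rw [Matrix.SpecialLinearGroup.coe_mul, Matrix.SpecialLinearGroup.coe_mul, ← mulVec_mulVec, ← mulVec_mulVec,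
    tv'_mulVec hij, mulVec_add, hh, hh.single, tv'_mulVec (π.injective.ne hij)]
  congr 1
  by_cases hc : c = j
  · subst hc
    rw [Pi.single_eq_same, Pi.single_eq_same]
    congr 1
    field_simp [hh.ne_zero c]
  · rw [Pi.single_eq_of_ne (Ne.symm hc), Pi.single_eq_of_ne (π.injective.ne (Ne.symm hc))]
    simp

theorem IsMono.theta {h : Matrix.SpecialLinearGroup (Fin k) F} {π : Equiv.Perm (Fin k)} {d : Fin k → F}
    (hh : IsMono h π d) : IsMono (CTA.theta h) π fun i => (d i)⁻¹ := by
  intro i
  have e : h.1ᵀ *ᵥ Pi.single (π i) (d i)⁻¹ = Pi.single i 1 := by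
    ext j
    rw [mulVec_single, Pi.smul_apply, Matrix.col_apply, Matrix.transpose_apply, hh.apply, op_smul_eq_mul]
    by_cases hj : j = i
    · subst hj; rw [if_pos rfl, Pi.single_eq_same, mul_inv_cancel₀ (hh.ne_zero j)]
    · rw [if_neg (π.injective.ne (Ne.symm hj)), zero_mul, Pi.single_eq_of_ne hj]
  rw [← e, theta_val, mulVec_mulVec, ← transpose_mul, ← Matrix.SpecialLinearGroup.coe_mul, mul_inv_cancel,
    Matrix.SpecialLinearGroup.coe_one, transpose_one, one_mulVec]

/-- Any permutation, with all but one of the scalars prescribed. -/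
theorem exists_mono (π : Equiv.Perm (Fin k)) (f : Fin k → F) (c : Fin k) (hf : ∀ i, i ≠ c → f i ≠ 0) :
    ∃ (h : Matrix.SpecialLinearGroup (Fin k) F) (d : Fin k → F), IsMono h π d ∧ ∀ i, i ≠ c → d i = f i := by
  let P : Matrix (Fin k) (Fin k) F := Matrix.of fun i j => if i = π j then 1 else 0
  have Pc : ∀ j, P *ᵥ Pi.single j 1 = Pi.single (π j) 1 := fun j => by
    ext i; simp [P, mulVec_single, Pi.single_apply]
  have hP : P.det ≠ 0 := by
    intro h
    obtain ⟨x, x0, hx⟩ := Matrix.exists_mulVec_eq_zero_iff.2 h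
    refine x0 (funext fun j => ?_)
    have := congrFun hx (π j)
    simpa [P, mulVec, dotProduct, π.injective.eq_iff] using this
  let g : Fin k → F := Function.update (fun j => f (π.symm j)) (π c)
    (P.det⁻¹ * (∏ j ∈ Finset.univ.erase (π c), f (π.symm j))⁻¹)
  have hprod : ∏ j ∈ Finset.univ.erase (π c), f (π.symm j) ≠ 0 := Finset.prod_ne_zero_iff.2 fun j hj =>
    hf _ fun e => (Finset.mem_erase.1 hj).1 (by rw [← e, π.apply_symm_apply])
  refine ⟨⟨Matrix.diagonal g * P, ?_⟩, fun i => g (π i), fun i => ?_, fun i hi => ?_⟩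
  · rw [det_mul, det_diagonal, Finset.prod_update_of_mem (Finset.mem_univ _)]
    rw [show (Finset.univ \ {π c} : Finset (Fin k)) = Finset.univ.erase (π c) from
      Finset.sdiff_singleton_eq_erase _ _]
    field_simp
  · show (Matrix.diagonal g * P) *ᵥ _ = _
    rw [← mulVec_mulVec, Pc, Matrix.diagonal_mulVec_single, mul_one]
  · show g (π i) = f i
    simp [g, π.injective.ne hi]

theorem emb2_col {i j : Fin k} (h : i ≠ j) (g : SL2) (c : Fin k) :
    (emb2 h g).1 *ᵥ Pi.single c 1 =
      if c = i then Pi.single i (g.1 0 0) + Pi.single j (g.1 1 0)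
      else if c = j then Pi.single i (g.1 0 1) + Pi.single j (g.1 1 1) else Pi.single c 1 := by
  ext x
  rw [mulVec_single_one, Matrix.col_apply, Cfsg.Agent.Small.SLnSt.emb_apply]
  by_cases hci : c = i <;> by_cases hcj : c = j <;> by_cases hxi : x = i <;> by_cases hxj : x = j <;>
    simp_all [eq_comm, Pi.single_apply, Matrix.one_apply]

theorem emb2_diag {i j : Fin k} (h : i ≠ j) {g : SL2} {x y : F} (hg : g.1 = !![x, 0; 0, y]) :
    IsMono (emb2 h g) 1 (fun c => if c = i then x else if c = j then y else 1) := by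
  intro c
  rw [emb2_col, hg]
  by_cases hci : c = i
  · subst hci; simp
  · by_cases hcj : c = j
    · subst hcj; simp [hci]
    · simp [hci, hcj]

theorem emb2_anti {i j : Fin k} (h : i ≠ j) {g : SL2} {x y : F} (hg : g.1 = !![0, x; y, 0]) :
    IsMono (emb2 h g) (Equiv.swap i j) (fun c => if c = i then y else if c = j then x else 1) := by
  intro c
  rw [emb2_col, hg]
  by_cases hci : c = i
  · subst hci; simp
  · by_cases hcj : c = j
    · subst hcj; simp [hci]
    · simp [hci, hcj, Equiv.swap_apply_of_ne_of_ne hci hcj]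

/-- Two homomorphisms agreeing on neighbouring transvections agree on all transvections below `m`. -/
theorem agree_tv {H : Type*} [Group H] (f g : Matrix.SpecialLinearGroup (Fin k) F →* H) (m : ℕ)
    (hn : ∀ p q : Fin k, p.val < m → q.val < m → (p.val = q.val + 1 ∨ q.val = p.val + 1) →
      ∀ t, f (tv' p q t) = g (tv' p q t)) :
    ∀ p q : Fin k, p.val < m → q.val < m → ∀ t, f (tv' p q t) = g (tv' p q t) := by
  have key : ∀ (d : ℕ) (p q : Fin k), p.val < m → q.val < m →
      (p.val = q.val + d + 1 ∨ q.val = p.val + d + 1) → ∀ t, f (tv' p q t) = g (tv' p q t) := by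
    intro d
    induction d with
    | zero => intro p q hp hq h; exact hn p q hp hq h
    | succ d ih =>
      intro p q hp hq h t
      obtain ⟨r, hr, h1, h2⟩ : ∃ r : Fin k, r.val < m ∧ (∀ t, f (tv' p r t) = g (tv' p r t)) ∧
          (∀ t, f (tv' r q t) = g (tv' r q t)) ∧ p ≠ r ∧ r ≠ q := by
        have := p.isLt
        have := q.isLt
        rcases h with h | h
        · refine ⟨⟨q.val + 1, by omega⟩, by simp only; omega, ih p _ hp (by simp only; omega) (Or.inl (by simp only; omega)),
            hn _ q (by simp only; omega) hq (Or.inl rfl), ?_, ?_⟩ <;> simp [Fin.ext_iff] <;> omega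
        · refine ⟨⟨p.val + 1, by omega⟩, by simp only; omega, hn p _ hp (by simp only; omega) (Or.inr rfl),
            ih _ q (by simp only; omega) hq (Or.inr (by simp only; omega)), ?_, ?_⟩ <;> simp [Fin.ext_iff] <;> omega
      obtain ⟨h2, hpr, hrq⟩ := h2
      have hpq : p ≠ q := fun e => by subst e; omega
      have e3 := tv'_comm3 hpr hrq hpq t 1
      rw [mul_one] at e3
      have : tv' p q t = tv' p r t * tv' r q 1 * (tv' p r t)⁻¹ * (tv' r q 1)⁻¹ := by rw [e3]; group
      rw [this]
      simp [h1, h2]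
  intro p q hp hq t
  rcases lt_trichotomy p.val q.val with h | h | h
  · exact key (q.val - p.val - 1) p q hp hq (Or.inr (by omega)) t
  · rw [Fin.ext h, tv', dif_neg (not_not.2 rfl), map_one, map_one]
  · exact key (p.val - q.val - 1) p q hp hq (Or.inl (by omega)) t

/-- The elements fixing the last two coordinate vectors are generated by transvections. -/
theorem stab2_mem {l : ℕ} (hl : 2 ≤ l) (K : Subgroup (Matrix.SpecialLinearGroup (Fin (l + 2)) F))
    (hK : ∀ p q : Fin (l + 2), p ≠ q → q ≠ (Fin.last l).castSucc → q ≠ Fin.last (l + 1) → ∀ t, tv' p q t ∈ K)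
    {h : Matrix.SpecialLinearGroup (Fin (l + 2)) F}
    (ha : h.1 *ᵥ Pi.single (Fin.last l).castSucc 1 = Pi.single (Fin.last l).castSucc 1)
    (hb : h.1 *ᵥ Pi.single (Fin.last (l + 1)) 1 = Pi.single (Fin.last (l + 1)) 1) : h ∈ K := by
  haveI : Nontrivial (Fin l) := Fin.nontrivial_iff_two_le.2 hl
  have hcol : ∀ i, h.1 i (Fin.last (l + 1)) = if i = Fin.last (l + 1) then 1 else 0 := fun i => by
    have := congrFun hb i
    rwa [mulVec_single_one, Matrix.col_apply, Pi.single_apply] at this
  have hcola : ∀ i, h.1 i (Fin.last l).castSucc = if i = (Fin.last l).castSucc then 1 else 0 := fun i => by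
    have := congrFun ha i
    rwa [mulVec_single_one, Matrix.col_apply, Pi.single_apply] at this
  have hA : (Matrix.of fun i j : Fin (l + 1) => h.1 i.castSucc j.castSucc).det = 1 := by
    have hd := h.2
    rw [Matrix.det_succ_column _ (Fin.last (l + 1)), Finset.sum_eq_single (Fin.last (l + 1))] at hd
    · rw [hcol, if_pos rfl, mul_one, Fin.succAbove_last, Even.neg_one_pow ⟨_, rfl⟩, one_mul] at hd
      exact hd
    · intro i _ hi; rw [hcol, if_neg hi, mul_zero, zero_mul]
    · intro hn; exact absurd (Finset.mem_univ _) hn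
  obtain ⟨A, hAv⟩ : ∃ A : Matrix.SpecialLinearGroup (Fin (l + 1)) F,
      A.1 = Matrix.of fun i j : Fin (l + 1) => h.1 i.castSucc j.castSucc := ⟨⟨_, hA⟩, rfl⟩
  have hAK : embLast A ∈ K := by
    refine stab_mem (K.comap embLast) (fun p q hpq hq t => ?_) (h := A) ?_
    · show embLast (tv' p q t) ∈ K
      rw [embLast_tv' hpq]
      exact hK _ _ (fun e => hpq (Fin.castSucc_injective _ e)) (fun e => hq (Fin.castSucc_injective _ e))
        (Fin.castSucc_lt_last q).ne t
    · ext i
      rw [mulVec_single_one, Matrix.col_apply, hAv, Matrix.of_apply, hcola, Pi.single_apply]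
      simp
  let r : Fin (l + 2) → F := Function.update (h.1 (Fin.last (l + 1))) (Fin.last (l + 1)) 0
  have hra : r (Fin.last l).castSucc = 0 := by
    simp [r, (Fin.castSucc_lt_last (Fin.last l)).ne, (Fin.castSucc_lt_last (Fin.last l)).ne', hcola]
  have hR : ∀ s : Finset (Fin (l + 2)), Fin.last (l + 1) ∉ s → ∃ R ∈ K,
      (R : Matrix.SpecialLinearGroup (Fin (l + 2)) F).1 = 1 + ∑ q ∈ s, Matrix.single (Fin.last (l + 1)) q (r q) := by
    intro s
    induction s using Finset.induction with
    | empty => intro _; exact ⟨1, one_mem _, by simp⟩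
    | insert q s hq ih =>
      intro hls
      rw [Finset.mem_insert, not_or] at hls
      obtain ⟨R, hR, hRv⟩ := ih hls.2
      have hmem : tv' (Fin.last (l + 1)) q (r q) ∈ K := by
        by_cases hqa : q = (Fin.last l).castSucc
        · subst hqa; rw [hra, tv'_zero]; exact one_mem _
        · exact hK _ _ hls.1 hqa (Ne.symm hls.1) _
      refine ⟨R * tv' (Fin.last (l + 1)) q (r q), mul_mem hR hmem, ?_⟩
      have h0 : (∑ i ∈ s, Matrix.single (Fin.last (l + 1)) i (r i)) * Matrix.single (Fin.last (l + 1)) q (r q) = 0 := by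
        rw [Finset.sum_mul]
        refine Finset.sum_eq_zero fun i hi => ?_
        have hne : i ≠ Fin.last (l + 1) := fun e => hls.2 (e ▸ hi)
        simp [hne]
      rw [Matrix.SpecialLinearGroup.coe_mul, hRv, tv'_val hls.1, Finset.sum_insert hq, add_mul, one_mul, mul_add,
        mul_one, h0]
      abel
  obtain ⟨R, hRK, hRv⟩ := hR (Finset.univ.erase (Fin.last (l + 1))) (Finset.notMem_erase _ _)
  have heq : h = embLast A * R := by
    refine Subtype.ext ?_
    ext i j
    rw [Matrix.SpecialLinearGroup.coe_mul, hRv, mul_add, mul_one, Finset.mul_sum, Matrix.add_apply,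
      Matrix.sum_apply]
    simp only [Matrix.mul_apply, Matrix.single_apply, mul_ite, mul_zero, ite_and, Finset.sum_ite_eq,
      Finset.mem_univ, if_true]
    induction i using Fin.lastCases with
    | last =>
      induction j using Fin.lastCases with
      | last => simp [embLast_val, hcol, r]
      | cast j => simp [embLast_val, r, Finset.sum_ite_eq', (Fin.castSucc_lt_last j).ne, Fin.is_le]
    | cast i =>
      induction j using Fin.lastCases with
      | last => simp [embLast_val, hcol, (Fin.castSucc_lt_last i).ne, Fin.is_le]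
      | cast j => simp [embLast_val, hAv, Fin.is_le]
  rw [heq]
  exact mul_mem hAK hRK

end Cfsg.Agent.Lie.CTA
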