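import Cfsg.Agent.Lib.Lie.CTA.DN.Fork

/-!
The commutator relations of type `D_n` in the group of a fork, by a change of frame.
-/

set_option autoImplicit false
set_option linter.unusedSectionVars false
set_option linter.style.haveILetI false

namespace Cfsg.Agent.Lie.CTA

open Matrix
open Cfsg.Agent.Lie.PlusGen (pl pl_swap)

variable {F : Type*} [Field F] [Fintype F] {G : Type*} [Group G]

/-- The scalar of a signed coordinate. -/
def sc {m : ℕ} (d : Fin m → F) : Fin m ⊕ Fin m → F := Sum.elim d fun i => (d i)⁻¹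

/-- A permutation of the places on the signed coordinates. -/
abbrev mapI {m : ℕ} (π : Equiv.Perm (Fin m)) : Fin m ⊕ Fin m → Fin m ⊕ Fin m := Sum.map π π

theorem pl_mapI {m : ℕ} (π : Equiv.Perm (Fin m)) (x : Fin m ⊕ Fin m) : pl (mapI π x) = π (pl x) := by
  rcases x with i | i <;> rfl

/-- Exchange the coordinates of the pairs in a set. -/
def flipSet {m : ℕ} (s : Finset (Fin m)) (x : Fin m ⊕ Fin m) : Fin m ⊕ Fin m := if pl x ∈ s then x.swap else x

theorem pl_flipSet {m : ℕ} (s : Finset (Fin m)) (x : Fin m ⊕ Fin m) : pl (flipSet s x) = pl x := by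
  unfold flipSet; split_ifs
  · exact pl_swap x
  · rfl

theorem flipSet_swap {m : ℕ} (s : Finset (Fin m)) (x : Fin m ⊕ Fin m) : flipSet s x.swap = (flipSet s x).swap := by
  unfold flipSet; rw [pl_swap]; split_ifs <;> rfl

namespace Fork

variable {l : ℕ} (K : Fork F G l)

theorem transport {h : Matrix.SpecialLinearGroup (Fin (l + 2)) F} {π : Equiv.Perm (Fin (l + 2))}
    {d : Fin (l + 2) → F} (hh : IsMono h π d) (x y : Fin (l + 2) ⊕ Fin (l + 2)) (hxy : pl x ≠ pl y) (t : F) :
    K.Φ h * K.X x y t * (K.Φ h)⁻¹ = K.X (mapI π x) (mapI π y) (sc d x * sc d y * t) := by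
  have key : ∀ (K : Fork F G l) {h : Matrix.SpecialLinearGroup (Fin (l + 2)) F} {d : Fin (l + 2) → F},
      IsMono h π d → ∀ (i : Fin (l + 2)) (y : Fin (l + 2) ⊕ Fin (l + 2)), i ≠ pl y → ∀ t,
      K.Φ h * K.X (Sum.inl i) y t * (K.Φ h)⁻¹ =
        K.X (Sum.inl (π i)) (mapI π y) (d i * sc d y * t) := by
    intro K h d hh i y hy t
    rcases y with j | j <;> simp only [pl, Sum.elim_inl, Sum.elim_inr, id] at hy
    · show _ = K.n2 (π i) (π j) (d i * d j * t)
      rw [show K.X (Sum.inl i) (Sum.inl j) t = K.ν (Pi.single i t) (Pi.single j 1) from rfl, ← K.ν_equiv, hh.single,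
        hh.single, K.ν_scale (π.injective.ne hy)]
      congr 1; ring
    · show K.Φ h * K.Φ (tv' i j t) * (K.Φ h)⁻¹ = K.Φ (tv' (π i) (π j) (d i * (d j)⁻¹ * t))
      rw [← map_inv, ← map_mul, ← map_mul, hh.conj_tv hy]
  rcases x with i | i
  · exact key K hh i y hxy t
  · have hπ : pl (mapI π (Sum.inr i)) ≠ pl (mapI π y) := by
      rw [pl_mapI, pl_mapI]; exact π.injective.ne hxy
    rw [← K.X_dual _ _ hxy, ← K.X_dual _ _ hπ]
    have e := key K.dual hh.theta i y.swap (by rw [pl_swap]; exact hxy) t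
    have eh : K.dual.Φ (theta h) = K.Φ h := by
      show K.Φ (theta (theta h)) = _
      rw [theta_theta]
    rw [eh] at e
    rw [show (Sum.inr i : Fin (l + 2) ⊕ Fin (l + 2)).swap = Sum.inl i from rfl, e]
    rcases y with j | j <;> simp [sc, mapI]

theorem exists_frame (s : Finset (Fin (l + 2))) :
    ∃ K' : Fork F G l, ∀ x y, pl x ≠ pl y → ∀ t, K'.X (flipSet s x) (flipSet s y) t = K.X x y t := by
  induction s using Finset.induction with
  | empty => exact ⟨K, fun x y _ t => by simp [flipSet]⟩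
  | insert k s hk ih =>
    obtain ⟨K1, h1⟩ := ih
    have comp : ∀ x : Fin (l + 2) ⊕ Fin (l + 2), flipSet (insert k s) x = flipAt k (flipSet s x) := fun x => by
      rcases x with i | i <;> by_cases hi : i = k <;> by_cases his : i ∈ s <;>
        simp_all [flipSet, flipAt, pl, Finset.mem_insert]
    suffices h2 : ∃ K2 : Fork F G l, ∀ z w, pl z ≠ pl w → ∀ t,
        K2.X (flipAt k z) (flipAt k w) t = K1.X z w t by
      obtain ⟨K2, h2⟩ := h2
      refine ⟨K2, fun x y hxy t => ?_⟩
      rw [comp, comp, h2 _ _ (by rw [pl_flipSet, pl_flipSet]; exact hxy), h1 x y hxy]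
    by_cases hkb : k = ib l
    · subst hkb; exact ⟨K1.swap, fun z w hzw t => K1.swap_X z w hzw t⟩
    obtain ⟨c, hck, hcb, -⟩ := exists_spare K.two k (ib l) (ib l)
    obtain ⟨h, d, hh, hd⟩ := exists_mono (Equiv.swap k (ib l)) (fun _ => (1 : F)) c (fun _ _ => one_ne_zero)
    have hflip : ∀ z : Fin (l + 2) ⊕ Fin (l + 2),
        flipAt (ib l) (mapI (Equiv.swap k (ib l)) z) = mapI (Equiv.swap k (ib l)) (flipAt k z) ∧
        sc d (flipAt k z) = sc d z := by
      intro z
      have hiff : (pl (mapI (Equiv.swap k (ib l)) z) = ib l) ↔ pl z = k := by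
        rw [pl_mapI]
        exact ⟨fun e => (Equiv.swap k (ib l)).injective (e.trans (Equiv.swap_apply_left _ _).symm),
          fun e => by rw [e, Equiv.swap_apply_left]⟩
      unfold flipAt
      by_cases hz : pl z = k
      · rw [if_pos hz, if_pos (hiff.2 hz)]
        rcases z with i | i <;> simp only [pl, Sum.elim_inl, Sum.elim_inr, id] at hz <;> subst hz <;>
          simp [mapI, sc, hd i (Ne.symm hck)]
      · rw [if_neg hz, if_neg fun e => hz (hiff.1 e)]
        exact ⟨rfl, rfl⟩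
    refine ⟨K1.swap.conjBy ((K1.Φ h)⁻¹ * K1.Φ' h), fun z w hzw t => ?_⟩
    have e1 := K1.transport hh z w hzw t
    have hm : pl (mapI (Equiv.swap k (ib l)) z) ≠ pl (mapI (Equiv.swap k (ib l)) w) := by
      rw [pl_mapI, pl_mapI]; exact (Equiv.swap k (ib l)).injective.ne hzw
    rw [← K1.swap_X _ _ hm, (hflip z).1, (hflip w).1, ← (hflip z).2, ← (hflip w).2,
      ← K1.swap.transport hh _ _ (by rw [pl_flipAt, pl_flipAt]; exact hzw)] at e1
    rw [conjBy_X, MulAut.conj_apply]
    change _ = K1.Φ' h * _ * (K1.Φ' h)⁻¹ at e1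
    calc (K1.Φ h)⁻¹ * K1.Φ' h * K1.swap.X (flipAt k z) (flipAt k w) t * ((K1.Φ h)⁻¹ * K1.Φ' h)⁻¹ =
          (K1.Φ h)⁻¹ * (K1.Φ' h * K1.swap.X (flipAt k z) (flipAt k w) t * (K1.Φ' h)⁻¹) * K1.Φ h := by group
      _ = K1.X z w t := by rw [← e1]; group

theorem exists_straight (T : List (Fin (l + 2) ⊕ Fin (l + 2))) (hT : ∀ x ∈ T, x.swap ∉ T) :
    ∃ (K' : Fork F G l) (s : Finset (Fin (l + 2))),
      (∀ x y, pl x ≠ pl y → ∀ t, K'.X (flipSet s x) (flipSet s y) t = K.X x y t) ∧
      ∀ x ∈ T, flipSet s x = Sum.inl (pl x) := by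
  classical
  obtain ⟨K', h⟩ := K.exists_frame (Finset.univ.filter fun p => Sum.inr p ∈ T)
  refine ⟨K', _, h, fun x hx => ?_⟩
  rcases x with i | i
  · have : Sum.inr i ∉ T := fun e => hT _ hx e
    simp [flipSet, pl, this]
  · simp [flipSet, pl, hx]

theorem flip_inr {m : ℕ} {s : Finset (Fin m)} {y : Fin m ⊕ Fin m} (h : flipSet s y.swap = Sum.inl (pl y.swap)) :
    flipSet s y = Sum.inr (pl y) := by
  rw [flipSet_swap, pl_swap] at h
  rw [← Sum.swap_swap (flipSet s y), h, Sum.swap_inl]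

theorem no_opp {m : ℕ} {x y a : Fin m ⊕ Fin m} (h1 : pl x ≠ pl y) (ha : a = x ∨ a = y.swap)
    (hb : a.swap = x ∨ a.swap = y.swap) : False := by
  rcases ha with rfl | rfl <;> rcases hb with h | h <;>
    first
      | exact Cfsg.Agent.Lie.PlusGen.swap_ne _ h
      | (have e := congrArg pl h
         simp only [pl_swap] at e
         first | exact h1 e | exact h1 e.symm)

theorem X_add (x y : Fin (l + 2) ⊕ Fin (l + 2)) (hxy : pl x ≠ pl y) (t u : F) :
    K.X x y t * K.X x y u = K.X x y (t + u) := by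
  obtain ⟨K', s, hK, hs⟩ := K.exists_straight [x, y.swap] (by
    intro a ha hb
    simp only [List.mem_cons, List.not_mem_nil, or_false] at ha hb
    exact no_opp hxy ha hb)
  rw [← hK x y hxy, ← hK x y hxy, ← hK x y hxy, hs x (by simp), flip_inr (hs y.swap (by simp))]
  show K'.Φ _ * K'.Φ _ = K'.Φ _
  rw [← map_mul, tv'_add hxy]

theorem X_zero (x y : Fin (l + 2) ⊕ Fin (l + 2)) (hxy : pl x ≠ pl y) : K.X x y 0 = 1 := by
  have := K.X_add x y hxy 0 0
  rw [add_zero] at this
  exact mul_eq_left.1 this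

theorem X_comm3 (x y z : Fin (l + 2) ⊕ Fin (l + 2)) (h1 : pl x ≠ pl y) (h2 : pl y ≠ pl z) (h3 : pl x ≠ pl z)
    (t u : F) : K.X x y t * K.X y.swap z u = K.X x z (t * u) * K.X y.swap z u * K.X x y t := by
  obtain ⟨K', s, hK, hs⟩ := K.exists_straight [x, y.swap, z.swap] (by
    intro a ha hb
    simp only [List.mem_cons, List.not_mem_nil, or_false] at ha hb
    rcases ha with rfl | rfl | rfl <;> rcases hb with h | h | h <;>
      first
        | exact Cfsg.Agent.Lie.PlusGen.swap_ne _ h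
        | (have e := congrArg pl h
           simp only [pl_swap] at e
           first | exact h1 e | exact h1 e.symm | exact h2 e | exact h2 e.symm | exact h3 e | exact h3 e.symm))
  have h2' : pl y.swap ≠ pl z := by rw [pl_swap]; exact h2
  rw [← hK x y h1, ← hK _ z h2', ← hK x z h3, hs x (by simp), flip_inr (hs y.swap (by simp)), hs y.swap (by simp),
    flip_inr (hs z.swap (by simp)), pl_swap]
  show K'.Φ _ * K'.Φ _ = K'.Φ _ * K'.Φ _ * K'.Φ _
  rw [← map_mul, ← map_mul, ← map_mul, tv'_comm3 h1 h2 h3]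

theorem X_comm (x y z w : Fin (l + 2) ⊕ Fin (l + 2)) (h1 : pl x ≠ pl y) (h2 : pl z ≠ pl w) (hxz : x.swap ≠ z)
    (hxw : x.swap ≠ w) (hyz : y.swap ≠ z) (hyw : y.swap ≠ w) (t u : F) : Commute (K.X x y t) (K.X z w u) := by
  suffices main : ∀ z w : Fin (l + 2) ⊕ Fin (l + 2), pl z ≠ pl w → x.swap ≠ z → x.swap ≠ w → y.swap ≠ z →
      y.swap ≠ w → x ≠ w → y ≠ z → ∀ u, Commute (K.X x y t) (K.X z w u) by
    by_cases hc : x ≠ w ∧ y ≠ z
    · exact main z w h2 hxz hxw hyz hyw hc.1 hc.2 u
    · have hc' : x ≠ z ∧ y ≠ w := by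
        constructor <;> intro e <;> subst e <;>
          rcases not_and_or.1 hc with h | h <;> have e2 := not_not.1 h <;> subst e2 <;>
            first | exact h1 rfl | exact h2 rfl
      have := main w z h2.symm hxw hxz hyw hyz hc'.1 hc'.2 (-u)
      rwa [← K.X_anti w z h2.symm] at this
  intro z w h2 hxz hxw hyz hyw a b u
  have sne : ∀ v : Fin (l + 2) ⊕ Fin (l + 2), v.swap ≠ v := Cfsg.Agent.Lie.PlusGen.swap_ne
  obtain ⟨K', s, hK, hs⟩ := K.exists_straight [x, y.swap, z, w.swap] (by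
    intro p hp hq
    simp only [List.mem_cons, List.not_mem_nil, or_false] at hp hq
    have inj : ∀ v v' : Fin (l + 2) ⊕ Fin (l + 2), v.swap = v'.swap → v = v' :=
      fun v v' e => Sum.swap_leftInverse.injective e
    rcases hp with rfl | rfl | rfl | rfl <;> rcases hq with h | h | h | h <;>
      (have h' := congrArg Sum.swap h; try simp only [Sum.swap_swap] at h'; try simp only [Sum.swap_swap] at h) <;>
      first
        | exact sne _ h | exact sne _ h.symm | exact hxz h | exact hxw h | exact hyz h | exact hyw h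
        | exact a (inj _ _ h) | exact a (inj _ _ h).symm | exact b (inj _ _ h) | exact b (inj _ _ h).symm
        | exact a h | exact a h.symm | exact b h | exact b h.symm
        | exact hxz h' | exact hxw h' | exact hyz h' | exact hyw h'
        | exact a h' | exact a h'.symm | exact b h' | exact b h'.symm
        | exact hxz h'.symm | exact hxw h'.symm | exact hyz h'.symm | exact hyw h'.symm
        | exact hxz h.symm | exact hxw h.symm | exact hyz h.symm | exact hyw h.symm
        | (have e := congrArg pl h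
           try simp only [pl_swap] at e
           first | exact h1 e | exact h1 e.symm | exact h2 e | exact h2 e.symm))
  rw [← hK x y h1, ← hK z w h2, hs x (by simp), flip_inr (hs y.swap (by simp)), hs z (by simp),
    flip_inr (hs w.swap (by simp))]
  show Commute (K'.Φ _) (K'.Φ _)
  refine (tv'_comm h1 h2 ?_ ?_ t u).map K'.Φ
  · intro e
    have h := hs x (by simp)
    rw [e, ← pl_swap w, ← hs w.swap (by simp)] at h
    unfold flipSet at h
    rw [pl_swap] at h
    have e' : (pl x ∈ s) = (pl w ∈ s) := by rw [e]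
    by_cases hm : pl w ∈ s
    · rw [if_pos hm, if_pos (e' ▸ hm)] at h; exact hxw (by rw [h, Sum.swap_swap])
    · rw [if_neg hm, if_neg (e' ▸ hm)] at h; exact hxw (by rw [h, Sum.swap_swap])
  · intro e
    have h := hs z (by simp)
    rw [← e, ← pl_swap y, ← hs y.swap (by simp)] at h
    unfold flipSet at h
    rw [pl_swap] at h
    have e' : (pl y ∈ s) = (pl z ∈ s) := by rw [e]
    by_cases hm : pl y ∈ s
    · rw [if_pos hm, if_pos (e' ▸ hm), Sum.swap_swap] at h
      exact hyz (by rw [← h, Sum.swap_swap])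
    · rw [if_neg hm, if_neg (e' ▸ hm)] at h; exact hyz h.symm

theorem X_comm_same (x y : Fin (l + 2) ⊕ Fin (l + 2)) (h1 : pl x ≠ pl y) (t u : F) :
    Commute (K.X x y t) (K.X x y.swap u) := by
  obtain ⟨K', s, hK, hs⟩ := K.exists_straight [x, y.swap] (by
    intro a ha hb
    simp only [List.mem_cons, List.not_mem_nil, or_false] at ha hb
    exact no_opp h1 ha hb)
  rw [← hK x y h1, ← hK x y.swap (by rw [pl_swap]; exact h1), hs x (by simp), flip_inr (hs y.swap (by simp)),
    hs y.swap (by simp), pl_swap]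
  show Commute (K'.Φ (tv' (pl x) (pl y) t)) (K'.n2 (pl x) (pl y) u)
  rcases eq_or_ne u 0 with rfl | hu
  · rw [n2_zero]; exact Commute.one_right _
  obtain ⟨g, π, d, -, g1, g2⟩ := K'.exists_lift h1 hu one_ne_zero
  obtain ⟨k, hk⟩ : ∃ k : Matrix.SpecialLinearGroup (Fin 2) F, k.1 = !![1, t / u; 0, 1] :=
    ⟨⟨_, by rw [det_fin_two_of]; simp⟩, rfl⟩
  have e := K'.ν_equiv (tv' (pl x) (pl y) t) (Pi.single (pl x) u) (Pi.single (pl y) 1)
  rw [tv'_mulVec h1, tv'_mulVec h1, Pi.single_eq_of_ne (Ne.symm h1), Pi.single_eq_same, mul_zero, Pi.single_zero,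
    add_zero, mul_one] at e
  have e2 := K'.ν_block g g1 g2 k
  simp [hk, ← Pi.single_smul, hu] at e2
  rw [add_comm (Pi.single (pl y) (1 : F) : Fin (l + 2) → F), e2] at e
  exact (eq_mul_inv_iff_mul_eq.1 e).symm

end Fork

end Cfsg.Agent.Lie.CTA
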